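import Mathlib

/-!
# The numerical estimates
-/

set_option autoImplicit false

namespace Cfsg.Agent.BC87.SolvableK

/-- `k` classes are enough for the prime `p`. -/
def Good (p k : ℕ) : Prop := (p : ℝ) ≤ 3 * Real.logb 2 p * k

variable {p : ℕ}

theorem le_mul_logb (hp : 2 ≤ p) {e t : ℕ} (h : 2 ^ e ≤ p ^ t) : (e : ℝ) ≤ t * Real.logb 2 p := by
  have h1 : ((2 : ℝ) ^ e) ≤ (p : ℝ) ^ t := by exact_mod_cast h
  have h2 := Real.logb_le_logb_of_le (b := 2) (by norm_num) (by positivity) h1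
  rwa [Real.logb_pow, Real.logb_pow, Real.logb_self_eq_one (by norm_num), mul_one] at h2

theorem one_le_logb (hp : 2 ≤ p) : (1 : ℝ) ≤ Real.logb 2 p := by
  have h := le_mul_logb hp (e := 1) (t := 1) (by rw [pow_one, pow_one]; exact hp)
  simpa using h

theorem good_mono (hp : 2 ≤ p) {k k' : ℕ} (h : k ≤ k') (hk : Good p k) : Good p k' := by
  have h1 := one_le_logb hp
  have h2 : (k : ℝ) ≤ k' := by exact_mod_cast h
  unfold Good at *
  nlinarith

theorem good_of_le (hp : 2 ≤ p) {k : ℕ} (h : p ≤ k) : Good p k := by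
  have h1 := one_le_logb hp
  have h2 : (p : ℝ) ≤ k := by exact_mod_cast h
  unfold Good
  nlinarith

theorem good_small (hp : 2 ≤ p) (hp' : p ≤ 64) {k : ℕ} (hk : 4 ≤ k) : Good p k := by
  refine good_mono hp hk ?_
  unfold Good
  push_cast
  have key : ∀ a e t : ℕ, 2 ^ e ≤ a ^ t → a ≤ p → (p : ℝ) * t ≤ 12 * e → 0 < t →
      (p : ℝ) ≤ 3 * Real.logb 2 p * 4 := by
    intro a e t h1 h2 h3 ht
    have h4 := le_mul_logb hp (h1.trans (Nat.pow_le_pow_left h2 t))
    have h5 : (0 : ℝ) < t := by exact_mod_cast ht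
    nlinarith
  rcases le_or_gt p 12 with h | h
  · refine key 2 1 1 (by norm_num) hp ?_ one_pos
    push_cast
    have : (p : ℝ) ≤ 12 := by exact_mod_cast h
    linarith
  rcases le_or_gt p 24 with h' | h'
  · refine key 4 2 1 (by norm_num) (by omega) ?_ one_pos
    push_cast
    have : (p : ℝ) ≤ 24 := by exact_mod_cast h'
    linarith
  rcases le_or_gt p 48 with h'' | h''
  · refine key 16 4 1 (by norm_num) (by omega) ?_ one_pos
    push_cast
    have : (p : ℝ) ≤ 48 := by exact_mod_cast h''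
    linarith
  · refine key 46 11 2 (by norm_num) (by omega) ?_ two_pos
    push_cast
    have : (p : ℝ) ≤ 64 := by exact_mod_cast hp'
    linarith

theorem good_high (hp : 64 < p) {a k : ℕ} (ha : 2 ≤ a)
    (h : 4 * p ^ a ≤ (k + 1) ^ 2 * 64 ^ (a - 1)) : Good p k := by
  obtain ⟨b, rfl⟩ : ∃ b, a = b + 2 := ⟨a - 2, by omega⟩
  rw [show b + 2 - 1 = b + 1 by omega, pow_succ 64] at h
  have h1 : 64 ^ b ≤ p ^ b := Nat.pow_le_pow_left hp.le b
  have h2 : 4 * p ^ 2 * 64 ^ b ≤ (k + 1) ^ 2 * 64 * 64 ^ b := by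
    calc 4 * p ^ 2 * 64 ^ b ≤ 4 * p ^ 2 * p ^ b := Nat.mul_le_mul_left _ h1
      _ = 4 * p ^ (b + 2) := by ring
      _ ≤ _ := by linarith
  have h3 : p ^ 2 ≤ (4 * (k + 1)) ^ 2 := by
    have := Nat.le_of_mul_le_mul_right h2 (by positivity)
    nlinarith
  have h4 : p ≤ 4 * (k + 1) := Nat.pow_le_pow_iff_left two_ne_zero |>.mp h3
  have h5 := le_mul_logb (p := p) (by omega) (e := 6) (t := 1) (by rw [pow_one]; omega)
  have h6 : (p : ℝ) ≤ 4 * (k + 1) := by exact_mod_cast h4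
  have h7 : (16 : ℝ) ≤ k := by exact_mod_cast (show 16 ≤ k by omega)
  unfold Good
  push_cast at h5
  nlinarith

theorem pow_four_le {e : ℕ} (he : 16 ≤ e) : e ^ 4 ≤ 2 ^ e := by
  induction e, he using Nat.le_induction with
  | base => norm_num
  | succ e he ih =>
    rw [pow_succ 2]
    have h1 : 16 ^ 4 * (e + 1) ^ 4 ≤ 17 ^ 4 * e ^ 4 := by
      rw [← mul_pow, ← mul_pow]
      exact Nat.pow_le_pow_left (by omega) 4
    generalize (e + 1) ^ 4 = X at h1 ⊢
    generalize e ^ 4 = Y at h1 ih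
    generalize 2 ^ e = P at ih ⊢
    norm_num at h1
    omega

theorem good_line (hp : 64 < p) {e k : ℕ} (hk : 1 ≤ k) (h1 : p ≤ k * e)
    (h2 : 4 * 2 ^ e ≤ (k + 1) ^ 2 * e ^ 2) : Good p k := by
  have hp2 : 2 ≤ p := by omega
  rcases le_or_gt (2 ^ e) (p ^ 3) with h | h
  · have h3 := le_mul_logb hp2 h
    have h4 : (p : ℝ) ≤ k * e := by exact_mod_cast h1
    have h5 : (0 : ℝ) ≤ k := Nat.cast_nonneg k
    unfold Good
    push_cast at h3
    nlinarith
  rcases le_or_gt (2 ^ e) (p ^ 6) with h' | h'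
  · have h3 := le_mul_logb hp2 h'
    push_cast at h3
    have h4 : (4 : ℝ) * (p : ℝ) ^ 3 ≤ (k + 1) ^ 2 * (e : ℝ) ^ 2 := by
      have : 4 * p ^ 3 ≤ (k + 1) ^ 2 * e ^ 2 := le_trans (by omega) h2
      exact_mod_cast this
    have hL := one_le_logb hp2
    set L := Real.logb 2 p
    have hk' : (1 : ℝ) ≤ k := by exact_mod_cast hk
    have hp' : (64 : ℝ) ≤ p := by exact_mod_cast hp.le
    have h5 : ((k : ℝ) + 1) * e ≤ 12 * k * L := by
      have h7 : (0 : ℝ) ≤ e := Nat.cast_nonneg e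
      nlinarith
    have h6 : ((k + 1) ^ 2 * (e : ℝ) ^ 2) ≤ (12 * k * L) ^ 2 := by
      rw [← mul_pow]
      exact pow_le_pow_left₀ (by positivity) h5 2
    have h8 : (8 * (p : ℝ)) ^ 2 ≤ (6 * k * L) ^ 2 := by nlinarith
    have h9 := pow_le_pow_iff_left₀ (by positivity) (by positivity) two_ne_zero |>.mp h8
    unfold Good
    nlinarith
  · have he : 16 ≤ e := by
      by_contra hlt
      have h3 : 2 ^ e ≤ 2 ^ 16 := Nat.pow_le_pow_right (by norm_num) (by omega)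
      have h4 : 64 ^ 6 ≤ p ^ 6 := Nat.pow_le_pow_left hp.le 6
      omega
    have h3 : 16 * (2 ^ e) * 2 ^ e ≤ (k + 1) ^ 4 * 2 ^ e := by
      calc 16 * (2 ^ e) * 2 ^ e = (4 * 2 ^ e) ^ 2 := by ring
        _ ≤ ((k + 1) ^ 2 * e ^ 2) ^ 2 := Nat.pow_le_pow_left h2 2
        _ = (k + 1) ^ 4 * e ^ 4 := by ring
        _ ≤ _ := Nat.mul_le_mul_left _ (pow_four_le he)
    have h4 := Nat.le_of_mul_le_mul_right h3 (by positivity)
    have h5 : (2 * p) ^ 4 ≤ (k + 1) ^ 4 := by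
      have h6 : p ^ 4 ≤ p ^ 6 := Nat.pow_le_pow_right (by omega) (by norm_num)
      rw [mul_pow]
      omega
    have := Nat.pow_le_pow_iff_left (by norm_num : 4 ≠ 0) |>.mp h5
    exact good_of_le hp2 (by omega)

end Cfsg.Agent.BC87.SolvableK
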