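import Cfsg.Agent.BC85.BaseTwo.Basic

/-!
# Subgroups of small index acting as an abelian group
-/

set_option autoImplicit false

namespace Cfsg.Agent.BC87.SolvableK

open Cfsg.Agent.BC85.BaseTwo
open scoped commutatorElement

/-- There is a subgroup `A` centralised modulo the kernel by a subgroup `M ≥ A`, with
`[H : M] [H : A] ≤ D`. -/
def Idx (H V : Type) [Group H] [AddCommGroup V] [DistribMulAction H V] (D : ℕ) : Prop :=
  ∃ A M : Subgroup H, A ≤ M ∧ (∀ a ∈ A, ∀ m ∈ M, Triv V ⁅a, m⁆) ∧ M.index * A.index ≤ D

/-- The inductive statement: irreducible modules of dimension `n` over a field. -/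
def Bound (n : ℕ) : Prop :=
  ∀ (V H K : Type) [AddCommGroup V] [Finite V] [Group H] [Finite H] [DistribMulAction H V]
    [Field K] [Finite K] [Module K V] [SMulCommClass H K V],
    Irr H V → Group.IsSolvable H → Module.finrank K V = n → Idx H V (64 ^ (n - 1))

theorem triv_comm_iff {H V : Type} [Group H] [AddCommGroup V] [DistribMulAction H V] (a m : H) :
    Triv V ⁅a, m⁆ ↔ ∀ v : V, a • m • v = m • a • v := by
  constructor
  · intro h v
    have h1 := h (m • a • v)
    rw [commutatorElement_def, mul_smul, mul_smul, mul_smul, inv_smul_smul, inv_smul_smul] at h1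
    exact h1
  · intro h v
    have h1 := h (a⁻¹ • m⁻¹ • v)
    rw [commutatorElement_def, mul_smul, mul_smul, mul_smul, h1, smul_inv_smul, smul_inv_smul]

end Cfsg.Agent.BC87.SolvableK
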