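import Cfsg.Agent.BC85.BaseThree.Colour
import Cfsg.Agent.BC87.SolvableK.Defs

/-!
# Small index subgroups acting as abelian groups: imprimitive modules
-/

set_option autoImplicit false

namespace Cfsg.Agent.BC87.SolvableK

open MulAction Cfsg.Agent.BC85 Cfsg.Agent.BC85.BaseTwo
open scoped commutatorElement

/-- Five regular orbits on five-colourings bound the order of a solvable permutation group. -/
theorem five_mul_index_le {H I : Type} [Group H] [Finite H] [Fintype I] [Nonempty I] [MulAction H I]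
    (hsol : Group.IsSolvable H) :
    5 * (toPermHom H I).ker.index ≤ 5 ^ Fintype.card I := by
  classical
  obtain ⟨c, hc⟩ := BaseThree.exists_five5 (G := H) (I := I) hsol
  let f : Fin 5 × (toPermHom H I).range → (I → Fin 5) := fun x i => c x.1 ((x.2 : Equiv.Perm I) i)
  have hf : Function.Injective f := by
    rintro ⟨a, ⟨_, g, rfl⟩⟩ ⟨b, ⟨_, g', rfl⟩⟩ h
    have h1 : ∀ j : I, c a ((g * g'⁻¹) • j) = c b j := fun j => by
      have h2 : c a (g • g'⁻¹ • j) = c b (g' • g'⁻¹ • j) := congrFun h (g'⁻¹ • j)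
      rwa [smul_inv_smul, ← mul_smul] at h2
    obtain ⟨rfl, h3⟩ := hc _ a b h1
    refine Prod.ext rfl (Subtype.ext (Equiv.ext fun i => ?_))
    have h4 := h3 (g' • i)
    rw [mul_smul, inv_smul_smul] at h4
    exact h4
  have h := Nat.card_le_card_of_injective f hf
  rwa [Nat.card_prod, Nat.card_fun, Nat.card_fin, Nat.card_eq_fintype_card (α := I),
    ← Subgroup.index_ker] at h

/-- An irreducible module with a permuted complete family of orthogonal idempotents. -/
theorem idx_of_blocks {n : ℕ} (hb : ∀ r < n, Bound r) {V H K : Type} [AddCommGroup V] [Finite V]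
    [Group H] [Finite H] [DistribMulAction H V] [Field K] [Finite K] [Module K V]
    [SMulCommClass H K V] (hsol : Group.IsSolvable H) (hirr : Irr H V)
    (hn : Module.finrank K V = n) {I : Type} [Fintype I] [MulAction H I] (e : I → V →+ V)
    (hK : ∀ i (k : K) v, e i (k • v) = k • e i v)
    (hidem : ∀ i v, e i (e i v) = e i v) (horth : ∀ i j v, i ≠ j → e i (e j v) = 0)
    (hsum : ∀ v, ∑ i, e i v = v) (hequiv : ∀ (h : H) i v, h • e i v = e (h • i) (h • v))
    (hne : ∀ i, ∃ v, e i v ≠ 0) (i0 i1 : I) (h01 : i0 ≠ i1) :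
    Idx H V (64 ^ (n - 1)) := by
  classical
  have htrans : ∀ i : I, ∃ h : H, h • i0 = i := by
    intro i
    let T : AddSubgroup V :=
      { carrier := {v | ∀ j, j ∉ orbit H i0 → e j v = 0}
        zero_mem' := fun j _ => map_zero (e j)
        add_mem' := fun {a b} ha hb j hj => by rw [map_add, ha j hj, hb j hj, add_zero]
        neg_mem' := fun {a} ha j hj => by rw [map_neg, ha j hj, neg_zero] }
    have hT : Inv H V T := by
      intro h v hv j hj
      have h1 : h⁻¹ • j ∉ orbit H i0 := by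
        rintro ⟨g, hg⟩
        exact hj ⟨h * g, by show (h * g) • i0 = j; rw [mul_smul]; exact (inv_smul_eq_iff.mp hg.symm).symm⟩
      have h2 := hequiv h (h⁻¹ • j) v
      rw [hv _ h1, smul_zero, smul_inv_smul] at h2
      exact h2.symm
    rcases hirr.2 T hT with hb | ht
    · obtain ⟨v, hv⟩ := hne i0
      refine absurd ?_ hv
      have : e i0 v ∈ T := fun j hj =>
        horth j i0 v fun h => hj (h.symm ▸ (mem_orbit_self i0 : i0 ∈ orbit H i0))
      rwa [hb, AddSubgroup.mem_bot] at this
    · by_contra hno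
      obtain ⟨v, hv⟩ := hne i
      exact hv ((ht ▸ AddSubgroup.mem_top v : v ∈ T) i fun ⟨g, hg⟩ => hno ⟨g, hg⟩)
  choose tr htr using htrans
  let W : Submodule K V :=
    { carrier := {v | e i0 v = v}
      zero_mem' := map_zero _
      add_mem' := fun {a b} ha hb => by
        show e i0 (a + b) = a + b
        rw [map_add, ha, hb]
      smul_mem' := fun k v hv => by
        show e i0 (k • v) = k • v
        rw [hK, hv] }
  let H0 : Subgroup H := stabilizer H i0
  have hW : ∀ (h : H0) (v : V), v ∈ W → (h : H) • v ∈ W := by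
    intro h v hv
    show e i0 ((h : H) • v) = (h : H) • v
    have h2 := hequiv (h : H) i0 v
    rw [show (h : H) • i0 = i0 from h.2, show e i0 v = v from hv] at h2
    exact h2.symm
  letI : DistribMulAction H0 W :=
    { smul := fun h w => ⟨(h : H) • (w : V), hW h _ w.2⟩
      one_smul := fun w => Subtype.ext (one_smul H (w : V))
      mul_smul := fun a b w => Subtype.ext (mul_smul (a : H) (b : H) (w : V))
      smul_zero := fun h => Subtype.ext (smul_zero (h : H))
      smul_add := fun h u w => Subtype.ext (smul_add (h : H) (u : V) (w : V)) }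
  haveI : SMulCommClass H0 K W := ⟨fun h k w => Subtype.ext (smul_comm (h : H) k (w : V))⟩
  have hcomp : ∀ (i : I) (v : V), (tr i)⁻¹ • e i v ∈ W := by
    intro i v
    have h1 := hequiv (tr i)⁻¹ i v
    rw [inv_smul_eq_iff.mpr (htr i).symm] at h1
    show e i0 _ = _
    rw [h1, hidem]
  have hirrW : Irr H0 W := by
    refine ⟨?_, fun X hX => ?_⟩
    · obtain ⟨v, hv⟩ := hne i0
      exact ⟨⟨e i0 v, hidem i0 v⟩, fun h => hv (congrArg Subtype.val h)⟩
    let X' : AddSubgroup V := X.map W.subtype.toAddMonoidHom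
    let T : AddSubgroup V :=
      { carrier := {v | ∀ (h : H), h⁻¹ • e (h • i0) v ∈ X'}
        zero_mem' := fun h => by rw [map_zero, smul_zero]; exact X'.zero_mem
        add_mem' := fun {a b} ha hb h => by rw [map_add, smul_add]; exact X'.add_mem (ha h) (hb h)
        neg_mem' := fun {a} ha h => by rw [map_neg, smul_neg]; exact X'.neg_mem (ha h) }
    have hT : Inv H V T := by
      intro g v hv h
      have h1 := hv (g⁻¹ * h)
      have h2 := hequiv g ((g⁻¹ * h) • i0) v
      rw [← mul_smul, mul_inv_cancel_left] at h2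
      rw [← h2, ← mul_smul]
      simpa [mul_smul] using h1
    rcases hirr.2 T hT with hb | ht
    · left
      rw [eq_bot_iff]
      intro x hx
      have hxT : (x : V) ∈ T := by
        intro h
        by_cases hh : h • i0 = i0
        · rw [hh, show e i0 (x : V) = x from x.2]
          exact AddSubgroup.mem_map.mpr
            ⟨_, hX ⟨h⁻¹, inv_mem (mem_stabilizer_iff.mpr hh)⟩ x hx, rfl⟩
        · rw [← show e i0 (x : V) = x from x.2, horth _ _ _ hh, smul_zero]
          exact X'.zero_mem
      rw [hb, AddSubgroup.mem_bot] at hxT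
      exact AddSubgroup.mem_bot.mpr (Subtype.ext hxT)
    · right
      rw [eq_top_iff]
      intro x _
      have h1 := (ht ▸ AddSubgroup.mem_top (x : V) : (x : V) ∈ T) 1
      rw [inv_one, one_smul, one_smul, show e i0 (x : V) = x from x.2] at h1
      obtain ⟨y, hy, he⟩ := AddSubgroup.mem_map.mp h1
      exact (Subtype.ext he : y = x) ▸ hy
  -- the module is a power of a block
  have hsel : ∀ (f : I → W) (j : I), e j (∑ i, tr i • (f i : V)) = tr j • (f j : V) := by
    intro f j
    have hval : ∀ i, tr i • (f i : V) = e i (tr i • (f i : V)) := by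
      intro i
      have h3 := hequiv (tr i) i0 (f i : V)
      rwa [htr i, show e i0 (f i : V) = f i from (f i).2] at h3
    rw [map_sum, Finset.sum_eq_single j]
    · exact (hval j).symm
    · intro i _ hij
      rw [hval i]
      exact horth j i _ hij.symm
    · exact fun hj => absurd (Finset.mem_univ j) hj
  let Ψ : V ≃ₗ[K] (I → W) :=
    { toFun := fun v i => ⟨(tr i)⁻¹ • e i v, hcomp i v⟩
      map_add' := fun a b => funext fun i => Subtype.ext (by
        show (tr i)⁻¹ • e i (a + b) = (tr i)⁻¹ • e i a + (tr i)⁻¹ • e i b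
        rw [map_add, smul_add])
      map_smul' := fun k a => funext fun i => Subtype.ext (by
        show (tr i)⁻¹ • e i (k • a) = k • (tr i)⁻¹ • e i a
        rw [hK, smul_comm])
      invFun := fun f => ∑ i, tr i • (f i : V)
      left_inv := fun v => by simp only [smul_inv_smul]; exact hsum v
      right_inv := fun f => funext fun i => Subtype.ext (by
        show (tr i)⁻¹ • e i _ = _
        rw [hsel, inv_smul_smul]) }
  haveI : Module.Finite K V := Module.Finite.of_finite
  have hdim : n = Fintype.card I * Module.finrank K W := by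
    rw [← hn, Ψ.finrank_eq, Module.finrank_pi_fintype, Finset.sum_const, Finset.card_univ,
      smul_eq_mul]
  set r := Module.finrank K W with hr
  set m := Fintype.card I with hm
  have hm2 : 2 ≤ m := Fintype.one_lt_card_iff.mpr ⟨i0, i1, h01⟩
  have hr1 : 0 < r := by
    obtain ⟨w, hw⟩ := hirrW.1
    exact Module.finrank_pos_iff_exists_ne_zero.mpr ⟨w, hw⟩
  haveI : Group.IsSolvable H := hsol
  obtain ⟨A0, M0, hAM, hcom, hidx⟩ :=
    hb r (by rw [hdim]; nlinarith) W H0 K hirrW inferInstance rfl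
  let P : Subgroup H := (toPermHom H I).ker
  have hP : ∀ h ∈ P, ∀ i : I, h • i = i := fun h hh i =>
    Equiv.ext_iff.mp (MonoidHom.mem_ker.mp hh) i
  let L : Subgroup H0 → Subgroup H := fun B =>
    P ⊓ ⨅ i : I, (B.map H0.subtype).comap (MulAut.conj (tr i)⁻¹).toMonoidHom
  have hL : ∀ B h, h ∈ L B ↔ h ∈ P ∧ ∀ i, ∃ b ∈ B, (b : H) = (tr i)⁻¹ * h * tr i := by
    intro B h
    simp only [L, Subgroup.mem_inf, Subgroup.mem_iInf, Subgroup.mem_comap, Subgroup.mem_map,
      MulEquiv.coe_toMonoidHom, MulAut.conj_apply, inv_inv, Subgroup.coe_subtype]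
  have hk : ∀ h ∈ P, ∀ i : I, (tr i)⁻¹ * h * tr i ∈ H0 := fun h hh i => by
    rw [mem_stabilizer_iff, mul_smul, mul_smul, htr i, hP h hh, inv_smul_eq_iff, htr]
  have hLidx : ∀ B : Subgroup H0, (L B).index ≤ P.index * B.index ^ m := by
    intro B
    rw [← Subgroup.relIndex_mul_index (show L B ≤ P from inf_le_left), Nat.mul_comm P.index]
    refine Nat.mul_le_mul_right _ ?_
    let f : P ⧸ (L B).subgroupOf P → (I → H0 ⧸ B) := fun x i =>
      QuotientGroup.mk ⟨_, hk _ x.out.2 i⟩
    have hf : Function.Injective f := by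
      intro x y hxy
      rw [← x.out_eq', ← y.out_eq', QuotientGroup.eq, Subgroup.mem_subgroupOf, hL]
      refine ⟨P.mul_mem (P.inv_mem x.out.2) y.out.2, fun i => ⟨_, QuotientGroup.eq.mp (congrFun hxy i), ?_⟩⟩
      simp only [Subgroup.coe_mul, Subgroup.coe_inv]
      group
    have h := Nat.card_le_card_of_injective f hf
    rwa [Nat.card_fun, ← Subgroup.index_eq_card, ← Subgroup.index_eq_card,
      Nat.card_eq_fintype_card, ← hm] at h
  refine ⟨L A0, L M0, fun h hh => ?_, fun a ha b hb v => ?_, ?_⟩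
  · rw [hL] at hh ⊢
    exact ⟨hh.1, fun i => let ⟨c, hc, e⟩ := hh.2 i; ⟨c, hAM hc, e⟩⟩
  · rw [hL] at ha hb
    rw [← hsum v, Finset.smul_sum]
    refine Finset.sum_congr rfl fun i _ => ?_
    obtain ⟨a', ha', hea⟩ := ha.2 i
    obtain ⟨b', hb', heb⟩ := hb.2 i
    have h1 : (⁅(a' : H), (b' : H)⁆) • ((tr i)⁻¹ • e i v) = (tr i)⁻¹ • e i v :=
      congrArg Subtype.val (hcom a' ha' b' hb' ⟨_, hcomp i v⟩)
    have h2 : ⁅(a' : H), (b' : H)⁆ = (tr i)⁻¹ * ⁅a, b⁆ * tr i := by
      rw [hea, heb]
      simp only [commutatorElement_def]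
      group
    rwa [h2, mul_smul, mul_smul, smul_inv_smul, smul_left_cancel_iff] at h1
  haveI : Nonempty I := ⟨i0⟩
  have h5 := five_mul_index_le (I := I) hsol
  rw [← hm] at h5
  obtain ⟨m', hm'⟩ : ∃ m', m = m' + 1 := ⟨m - 1, by omega⟩
  obtain ⟨r', hr'⟩ : ∃ r', r = r' + 1 := ⟨r - 1, by omega⟩
  have hexp : n - 1 = m' + r' * m := by
    have e1 : (m' + 1) * (r' + 1) = m' + r' * (m' + 1) + 1 := by ring
    rw [hdim, hm', hr', e1]
    omega
  have h25 : P.index ^ 2 ≤ 64 ^ m' := by
    have h1 : P.index ≤ 5 ^ m' := by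
      rw [hm', pow_succ'] at h5
      exact Nat.le_of_mul_le_mul_left h5 (by norm_num)
    calc P.index ^ 2 ≤ (5 ^ m') ^ 2 := Nat.pow_le_pow_left h1 2
      _ = 25 ^ m' := by rw [← pow_mul, mul_comm, pow_mul]; norm_num
      _ ≤ 64 ^ m' := Nat.pow_le_pow_left (by norm_num) _
  calc (L M0).index * (L A0).index ≤ (P.index * M0.index ^ m) * (P.index * A0.index ^ m) :=
        Nat.mul_le_mul (hLidx M0) (hLidx A0)
    _ = P.index ^ 2 * (M0.index * A0.index) ^ m := by ring
    _ ≤ 64 ^ m' * (64 ^ (r - 1)) ^ m := Nat.mul_le_mul h25 (Nat.pow_le_pow_left hidx m)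
    _ = 64 ^ (n - 1) := by rw [hexp, hr', Nat.add_sub_cancel, ← pow_mul, ← pow_add]

end Cfsg.Agent.BC87.SolvableK
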