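import Mathlib.GroupTheory.Index
import Mathlib.GroupTheory.QuotientGroup.Basic
import Mathlib.Algebra.Group.Conj
import Mathlib.GroupTheory.Subgroup.Centralizer
import Mathlib.Tactic
import Mathlib.GroupTheory.ClassEquation

/-!
# Lower bounds for the number of conjugacy classes
-/

set_option autoImplicit false

namespace Cfsg.Agent.BC87.SolvableK

variable {G : Type*} [Group G]

/-- The number of classes of `G` meeting the subgroup `N`. -/
noncomputable def classesIn (N : Subgroup G) : ℕ :=
  Nat.card {c : ConjClasses G // ∃ x ∈ N, ConjClasses.mk x = c}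

variable [Finite G]

theorem classesIn_le (N : Subgroup G) : classesIn N ≤ Nat.card (ConjClasses G) :=
  Finite.card_subtype_le _

/-- A subgroup centralised by `M` meets at least `|A| / [G : M]` classes. -/
theorem card_le_classesIn_mul_index (A M : Subgroup G)
    (h : ∀ a ∈ A, ∀ m ∈ M, m * a = a * m) :
    Nat.card A ≤ classesIn A * M.index := by
  classical
  let cls : A → {c : ConjClasses G // ∃ x ∈ A, ConjClasses.mk x = c} :=
    fun a => ⟨ConjClasses.mk (a : G), a, a.2, rfl⟩
  have hrep : ∀ c : {c : ConjClasses G // ∃ x ∈ A, ConjClasses.mk x = c},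
      ∃ x ∈ A, ConjClasses.mk x = c.1 := fun c => c.2
  choose rep hrepA hrep using hrep
  have hg : ∀ a : A, ∃ g : G, g * rep (cls a) * g⁻¹ = a := fun a =>
    isConj_iff.mp (ConjClasses.mk_eq_mk_iff_isConj.mp (hrep (cls a)))
  choose g hg using hg
  let f : A → {c : ConjClasses G // ∃ x ∈ A, ConjClasses.mk x = c} × (G ⧸ M) :=
    fun a => (cls a, QuotientGroup.mk (g a))
  have hf : Function.Injective f := by
    intro a b hab
    simp only [f, Prod.mk.injEq] at hab
    obtain ⟨h1, h2⟩ := hab
    rw [QuotientGroup.eq] at h2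
    have hc := h (rep (cls a)) (hrepA _) _ h2
    have ha := hg a
    have hb := hg b
    rw [← h1] at hb
    apply Subtype.ext
    calc (a : G) = g a * rep (cls a) * (g a)⁻¹ := ha.symm
      _ = g a * (rep (cls a) * ((g a)⁻¹ * g b)) * (g b)⁻¹ := by group
      _ = g a * (((g a)⁻¹ * g b) * rep (cls a)) * (g b)⁻¹ := by rw [hc]
      _ = g b * rep (cls a) * (g b)⁻¹ := by group
      _ = b := hb
  have h1 := Nat.card_le_card_of_injective f hf
  rwa [Nat.card_prod, ← Subgroup.index_eq_card] at h1

theorem card_le_classes_mul_index (A M : Subgroup G)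
    (h : ∀ a ∈ A, ∀ m ∈ M, m * a = a * m) :
    Nat.card A ≤ Nat.card (ConjClasses G) * M.index :=
  (card_le_classesIn_mul_index A M h).trans (Nat.mul_le_mul_right _ (classesIn_le A))

/-- Classes inside a normal subgroup and classes of the quotient. -/
theorem classesIn_add_le (N M : Subgroup G) [M.Normal] (hNM : N ≤ M) :
    classesIn N + Nat.card (ConjClasses (G ⧸ M)) ≤ Nat.card (ConjClasses G) + 1 := by
  classical
  haveI : Fintype (ConjClasses G) := Fintype.ofFinite _
  haveI : Fintype (ConjClasses (G ⧸ M)) := Fintype.ofFinite _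
  set π := ConjClasses.map (QuotientGroup.mk' M) with hπ
  have hsurj : Function.Surjective π := ConjClasses.map_surjective (QuotientGroup.mk'_surjective M)
  let S : Finset (ConjClasses G) := Finset.univ.filter fun c => ∃ x ∈ N, ConjClasses.mk x = c
  have hS : classesIn N = S.card := by
    rw [classesIn, Nat.card_eq_fintype_card, Fintype.card_subtype]
  have hS1 : S.image π ⊆ {1} := by
    intro d hd
    obtain ⟨c, hc, rfl⟩ := Finset.mem_image.mp hd
    obtain ⟨x, hx, rfl⟩ := (Finset.mem_filter.mp hc).2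
    rw [Finset.mem_singleton, ConjClasses.one_eq_mk_one]
    show ConjClasses.mk (QuotientGroup.mk' M x) = _
    rw [QuotientGroup.mk'_apply, (QuotientGroup.eq_one_iff x).mpr (hNM hx)]
  have hSc : (Finset.univ.erase (1 : ConjClasses (G ⧸ M))) ⊆ Sᶜ.image π := by
    intro d hd
    obtain ⟨c, rfl⟩ := hsurj d
    refine Finset.mem_image.mpr ⟨c, Finset.mem_compl.mpr fun hc => ?_, rfl⟩
    exact (Finset.mem_erase.mp hd).1
      (Finset.mem_singleton.mp (hS1 (Finset.mem_image_of_mem π hc)))
  have h1 := (Finset.card_le_card hSc).trans Finset.card_image_le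
  rw [Finset.card_erase_of_mem (Finset.mem_univ _), Finset.card_univ, Finset.card_compl] at h1
  have h2 : S.card ≤ Fintype.card (ConjClasses G) := Finset.card_le_univ S
  have h3 : 0 < Fintype.card (ConjClasses (G ⧸ M)) := Fintype.card_pos
  rw [hS, Nat.card_eq_fintype_card, Nat.card_eq_fintype_card]
  omega

theorem card_conjClasses_quotient_le (M : Subgroup G) [M.Normal] :
    Nat.card (ConjClasses (G ⧸ M)) ≤ Nat.card (ConjClasses G) :=
  Nat.card_le_card_of_surjective _
    (ConjClasses.map_surjective (QuotientGroup.mk'_surjective M))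

theorem two_le_classesIn {N : Subgroup G} (hN : N ≠ ⊥) : 2 ≤ classesIn N := by
  classical
  obtain ⟨⟨x, hx⟩, hx0⟩ := N.ne_bot_iff_exists_ne_one.mp hN
  have hx1 : x ≠ 1 := fun h => hx0 (Subtype.ext h)
  have : Nontrivial {c : ConjClasses G // ∃ y ∈ N, ConjClasses.mk y = c} :=
    ⟨⟨ConjClasses.mk 1, 1, N.one_mem, rfl⟩, ⟨ConjClasses.mk x, x, hx, rfl⟩, fun h => hx1 (by
      have h1 := ConjClasses.mk_eq_mk_iff_isConj.mp (congrArg Subtype.val h)
      exact isConj_one_right.mp h1)⟩
  exact Finite.one_lt_card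

theorem two_le_classes [Nontrivial G] : 2 ≤ Nat.card (ConjClasses G) :=
  (two_le_classesIn (top_ne_bot (α := Subgroup G))).trans (classesIn_le _)

theorem classesIn_pos (N : Subgroup G) : 0 < classesIn N := by
  haveI : Nonempty {c : ConjClasses G // ∃ y ∈ N, ConjClasses.mk y = c} :=
    ⟨⟨ConjClasses.mk 1, 1, N.one_mem, rfl⟩⟩
  exact Nat.card_pos

/-- The main counting inequality. -/
theorem four_mul_card_le (V C : Subgroup G) [C.Normal] (hVC : V ≤ C)
    (hcen : ∀ v ∈ V, ∀ c ∈ C, c * v = v * c) (A M : Subgroup (G ⧸ C))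
    (h : ∀ a ∈ A, ∀ m ∈ M, m * a = a * m) :
    4 * Nat.card V ≤ (Nat.card (ConjClasses G) + 1) ^ 2 * (M.index * A.index) := by
  have h1 := card_le_classesIn_mul_index V C hcen
  have h2 := card_le_classes_mul_index A M h
  have h3 := classesIn_add_le V C hVC
  rw [Subgroup.index_eq_card C, ← A.index_mul_card] at h1
  set i := classesIn V
  set k := Nat.card (ConjClasses (G ⧸ C))
  set K := Nat.card (ConjClasses G) + 1
  have h4 : 4 * (i * k) ≤ K ^ 2 := by
    have h5 : (i + k) ^ 2 ≤ K ^ 2 := Nat.pow_le_pow_left h3 2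
    nlinarith [sq_nonneg ((i : ℤ) - k)]
  calc 4 * Nat.card V ≤ 4 * (i * (A.index * Nat.card A)) := Nat.mul_le_mul_left _ h1
    _ ≤ 4 * (i * (A.index * (k * M.index))) := by gcongr
    _ = 4 * (i * k) * (M.index * A.index) := by ring
    _ ≤ K ^ 2 * (M.index * A.index) := Nat.mul_le_mul_right _ h4

end Cfsg.Agent.BC87.SolvableK
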