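import Cfsg.Agent.BC87.SolvableK.Decomp

/-!
# Faithful irreducible modules with a normal subgroup of prime order
-/

set_option autoImplicit false

namespace Cfsg.Agent.BC87.SolvableK

open Polynomial Cfsg.Agent.BC85.BaseTwo
open scoped commutatorElement

/-- Clifford: a normal subgroup is completely reducible. -/
theorem cr_of_normal {H W : Type} [Group H] [AddCommGroup W] [Finite W] [DistribMulAction H W]
    (hirr : Irr H W) (C : Subgroup H) [C.Normal] : CR C W := by
  intro U hU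
  obtain ⟨Y, ⟨hY, hUY⟩, hYmax⟩ := Set.Finite.exists_maximal
    (s := {Y : AddSubgroup W | Inv C W Y ∧ U ⊓ Y = ⊥}) (Set.toFinite _)
    ⟨⊥, fun c v hv => by rw [AddSubgroup.mem_bot.mp hv, smul_zero]; exact zero_mem _, inf_bot_eq _⟩
  refine ⟨Y, hY, hUY, ?_⟩
  by_contra hne
  obtain ⟨S, ⟨hS, hS0⟩, hSmin⟩ := Set.Finite.exists_minimal
    (s := {S : AddSubgroup W | Inv C W S ∧ S ≠ ⊥}) (Set.toFinite _)
    ⟨⊤, fun _ _ _ => trivial, fun h => by
      obtain ⟨v, hv⟩ := hirr.1
      exact hv (AddSubgroup.mem_bot.mp (h ▸ AddSubgroup.mem_top v))⟩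
  have hUYinv : Inv C W (U ⊔ Y) := by
    intro c v hv
    obtain ⟨u, hu, y, hy, rfl⟩ := AddSubgroup.mem_sup.mp hv
    rw [smul_add]
    exact AddSubgroup.mem_sup.mpr ⟨_, hU c u hu, _, hY c y hy, rfl⟩
  let T : AddSubgroup W :=
    { carrier := {w | ∀ h : H, h • w ∈ U ⊔ Y}
      zero_mem' := fun h => by rw [smul_zero]; exact zero_mem _
      add_mem' := fun {a b} ha hb h => by rw [smul_add]; exact add_mem (ha h) (hb h)
      neg_mem' := fun {a} ha h => by rw [smul_neg]; exact neg_mem (ha h) }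
  have hT : Inv H W T := fun g w hw h => by rw [← mul_smul]; exact hw (h * g)
  obtain ⟨s, hs, h, hsh⟩ : ∃ s ∈ S, ∃ h : H, h • s ∉ U ⊔ Y := by
    by_contra hno
    push Not at hno
    rcases hirr.2 T hT with hb | ht
    · exact hS0 (eq_bot_iff.mpr fun s hs => hb ▸ (fun h => hno s hs h : s ∈ T))
    · refine hne (eq_top_iff.mpr fun w _ => ?_)
      simpa using (ht ▸ AddSubgroup.mem_top w : w ∈ T) 1
  let φ : W →+ W := DistribMulAction.toAddMonoidHom W h
  have hS' : Inv C W (S.map φ) := by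
    intro c v hv
    obtain ⟨t, ht, rfl⟩ := AddSubgroup.mem_map.mp hv
    refine AddSubgroup.mem_map.mpr
      ⟨(⟨h⁻¹ * c * h, by simpa using Subgroup.Normal.conj_mem inferInstance (c : H) c.2 h⁻¹⟩ : C) • t,
        hS _ t ht, ?_⟩
    show h • ((h⁻¹ * c * h : H) • t) = (c : H) • h • t
    rw [← mul_smul, ← mul_smul]
    congr 1
    group
  have hX : S ⊓ (U ⊔ Y).comap φ = ⊥ := by
    by_contra hX
    refine hsh ((hSmin ⟨fun c v hv => ?_, hX⟩ inf_le_left hs).2)
    refine ⟨hS c v hv.1, ?_⟩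
    show h • (c : H) • v ∈ U ⊔ Y
    have e : h • (c : H) • v = ((h * c * h⁻¹ : H)) • h • v := by
      rw [← mul_smul, ← mul_smul]
      congr 1
      group
    rw [e]
    exact hUYinv ⟨_, Subgroup.Normal.conj_mem inferInstance (c : H) c.2 h⟩ _ hv.2
  have hbig : U ⊓ (Y ⊔ S.map φ) = ⊥ := by
    refine eq_bot_iff.mpr ?_
    rintro v ⟨hvU, hv⟩
    obtain ⟨y, hy, w, hw, rfl⟩ := AddSubgroup.mem_sup.mp hv
    obtain ⟨t, ht, rfl⟩ := AddSubgroup.mem_map.mp hw
    have h1 : φ t ∈ U ⊔ Y := by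
      have := sub_mem (AddSubgroup.mem_sup_left (T := Y) hvU) (AddSubgroup.mem_sup_right (S := U) hy)
      rwa [add_sub_cancel_left] at this
    have h2 : t ∈ S ⊓ (U ⊔ Y).comap φ := ⟨ht, h1⟩
    rw [hX, AddSubgroup.mem_bot] at h2
    subst h2
    rw [map_zero, add_zero] at hvU ⊢
    exact hUY ▸ (⟨hvU, hy⟩ : y ∈ U ⊓ Y)
  have hYinv : Inv C W (Y ⊔ S.map φ) := by
    intro c v hv
    obtain ⟨y, hy, w, hw, rfl⟩ := AddSubgroup.mem_sup.mp hv
    rw [smul_add]
    exact AddSubgroup.mem_sup.mpr ⟨_, hY c y hy, _, hS' c w hw, rfl⟩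
  exact hsh (AddSubgroup.mem_sup_right (hYmax ⟨hYinv, hbig⟩ le_sup_left
    (AddSubgroup.mem_sup_right ⟨s, hs, rfl⟩)))

/-- Subgroups commuting elementwise, with `[H : M] [H : A] 2 ^ e ≤ e² |W|`. -/
theorem exists_pair {H W : Type} [Group H] [Finite H] [AddCommGroup W] [Finite W]
    [DistribMulAction H W] [FaithfulSMul H W] (hsol : Group.IsSolvable H) (hirr : Irr H W)
    (Z : Subgroup H) [Z.Normal] {p : ℕ} (hp : p.Prime) (hZ : Nat.card Z = p) (hp64 : 64 < p) :
    ∃ A M : Subgroup H, (∀ a ∈ A, ∀ m ∈ M, m * a = a * m) ∧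
      M.index * A.index * 2 ^ (Subgroup.centralizer (Z : Set H)).index ≤
        (Subgroup.centralizer (Z : Set H)).index ^ 2 * Nat.card W := by
  classical
  haveI := Fact.mk hp
  haveI : Group.IsSolvable H := hsol
  set C := Subgroup.centralizer (Z : Set H) with hC
  have hgen : ∀ x ∈ Z, x ≠ 1 → ∀ y ∈ Z, y ∈ Subgroup.zpowers x := by
    intro x hx hx1 y hy
    have h := zpowers_eq_top_of_prime_card (G := Z) hZ
      (g := ⟨x, hx⟩) (fun h => hx1 (congrArg Subtype.val h))
    obtain ⟨i, hi⟩ := Subgroup.mem_zpowers_iff.mp (h ▸ Subgroup.mem_top (⟨y, hy⟩ : Z))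
    exact Subgroup.mem_zpowers_iff.mpr ⟨i, by simpa using congrArg Subtype.val hi⟩
  obtain ⟨⟨z, hzZ⟩, hz0⟩ := Z.ne_bot_iff_exists_ne_one.mp (by
    rintro rfl
    rw [Subgroup.card_bot] at hZ
    omega)
  have hz1 : z ≠ 1 := fun h => hz0 (Subtype.ext h)
  have hZcomm : ∀ a ∈ Z, ∀ b ∈ Z, a * b = b * a := by
    intro a ha b hb
    obtain ⟨i, rfl⟩ := hgen z hzZ hz1 a ha
    obtain ⟨j, rfl⟩ := hgen z hzZ hz1 b hb
    rw [← zpow_add, ← zpow_add, add_comm]
  have hZC : Z ≤ C := fun a ha => Subgroup.mem_centralizer_iff.mpr fun b hb => hZcomm b hb a ha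
  have hcen : ∀ c : C, (c : H) ∈ Z → c ∈ Subgroup.center C := fun c hc =>
    Subgroup.mem_center_iff.mpr fun g => Subtype.ext
      (Subgroup.mem_centralizer_iff.mp g.2 c hc).symm
  have hfix : ∀ w : W, z • w = w → w = 0 := by
    let T : AddSubgroup W :=
      { carrier := {w | ∀ x ∈ Z, x • w = w}
        zero_mem' := fun x _ => smul_zero x
        add_mem' := fun {a b} ha hb x hx => by rw [smul_add, ha x hx, hb x hx]
        neg_mem' := fun {a} ha x hx => by rw [smul_neg, ha x hx] }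
    have hT : Inv H W T := by
      intro g w hw x hx
      have h1 := hw (g⁻¹ * x * g)
        (by simpa using Subgroup.Normal.conj_mem inferInstance x hx g⁻¹)
      rwa [mul_smul, mul_smul, inv_smul_eq_iff] at h1
    have hTb : T = ⊥ := (hirr.2 T hT).resolve_right fun ht => hz1
      (eq_of_smul_eq_smul (α := W) fun w => by
        rw [one_smul]; exact (ht ▸ AddSubgroup.mem_top w : w ∈ T) z hzZ)
    intro w hw
    have : w ∈ T := by
      intro x hx
      have h1 : Subgroup.zpowers z ≤ MulAction.stabilizer H w := Subgroup.zpowers_le.mpr hw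
      exact h1 (hgen z hzZ hz1 x hx)
    rwa [hTb, AddSubgroup.mem_bot] at this
  let zC : C := ⟨z, hZC hzZ⟩
  obtain ⟨A, M, P, hcom, hPm, hP0, hidx⟩ := dec_all (Nat.card W) W C zC p le_rfl inferInstance
    (cr_of_normal hirr C) (hcen zC hzZ)
    (Subtype.ext (by
      show z ^ p = 1
      have h := pow_card_eq_one' (x := (⟨z, hzZ⟩ : Z))
      rw [hZ] at h
      exact congrArg Subtype.val h)) hp hp64 hfix
  -- the conjugates of the generator are roots of the polynomial
  have hdeg : C.index ≤ P.natDegree := by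
    obtain ⟨U, ⟨hU, hU0⟩, hUmin⟩ := Set.Finite.exists_minimal
      (s := {S : AddSubgroup W | Inv C W S ∧ S ≠ ⊥}) (Set.toFinite _)
      ⟨⊤, fun _ _ _ => trivial, fun h => by
        obtain ⟨v, hv⟩ := hirr.1
        exact hv (AddSubgroup.mem_bot.mp (h ▸ AddSubgroup.mem_top v))⟩
    letI iU := restrict U hU
    obtain ⟨u0, hu0⟩ : ∃ u : U, u ≠ 0 := by
      by_contra hno
      push Not at hno
      exact hU0 (eq_bot_iff.mpr fun v hv => by
        rw [AddSubgroup.mem_bot]; exact congrArg Subtype.val (hno ⟨v, hv⟩))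
    have hirrU : Irr C U := by
      refine ⟨⟨u0, hu0⟩, fun X hX => ?_⟩
      by_cases hX0 : X = ⊥
      · exact Or.inl hX0
      right
      have hmem : X.map U.subtype ∈ {S : AddSubgroup W | Inv C W S ∧ S ≠ ⊥} := by
        refine ⟨fun c v hv => ?_, fun h => hX0 ?_⟩
        · obtain ⟨x, hx, rfl⟩ := AddSubgroup.mem_map.mp hv
          exact AddSubgroup.mem_map.mpr ⟨c • x, hX c x hx, rfl⟩
        · exact (AddSubgroup.map_eq_bot_iff_of_injective _ Subtype.val_injective).mp h
      refine eq_top_iff.mpr fun x _ => ?_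
      obtain ⟨y, hy, he⟩ := AddSubgroup.mem_map.mp
        (hUmin hmem (fun v hv => by
          obtain ⟨x, -, rfl⟩ := AddSubgroup.mem_map.mp hv; exact x.2) x.2)
      exact (Subtype.ext he : y = x) ▸ hy
    obtain ⟨hf, -⟩ := isField_closure hirrU (op C U '' {c : C | (c : H) ∈ Z})
      (by
        rintro _ ⟨a, ha, rfl⟩ _ ⟨b, hb, rfl⟩
        rw [← map_mul, ← map_mul, Subgroup.mem_center_iff.mp (hcen b hb) a])
      (by
        rintro _ ⟨a, ha, rfl⟩ c v
        show a • c • v = c • a • v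
        rw [← mul_smul, ← mul_smul, Subgroup.mem_center_iff.mp (hcen a ha) c])
    set R := Subring.closure (op C U '' {c : C | (c : H) ∈ Z}) with hR
    letI : Field R := hf.toField
    have hcz : ∀ g : H, g * z * g⁻¹ ∈ Z := fun g => Subgroup.Normal.conj_mem inferInstance z hzZ g
    let w : H → R := fun g =>
      ⟨op C U (⟨g * z * g⁻¹, hZC (hcz g)⟩ : C), Subring.subset_closure (s := op C U '' {c : C | (c : H) ∈ Z}) ⟨⟨g * z * g⁻¹, hZC (hcz g)⟩, hcz g, rfl⟩⟩
    have hroot : ∀ g, aeval (w g) P = 0 := by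
      intro g
      apply Subtype.ext
      refine (aeval_algHom_apply R.subtype.toIntAlgHom (w g) P).symm.trans ?_
      refine AddMonoidHom.ext fun u => Subtype.ext ?_
      show ((aeval (op C U (⟨g * z * g⁻¹, hZC (hcz g)⟩ : C)) P u : U) : W) = 0
      refine (aeval_op_comm (H := H) U.subtype (⟨g * z * g⁻¹, hZC (hcz g)⟩ : C) (g * z * g⁻¹)
        (fun _ => rfl) P u).trans ?_
      have e := aeval_op_comm (C := H) (H := H) (DistribMulAction.toAddMonoidHom W g) z (g * z * g⁻¹)
        (fun x => by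
          show g • z • x = (g * z * g⁻¹) • g • x
          rw [← mul_smul, ← mul_smul]
          congr 1
          group) P (g⁻¹ • (u : W))
      have e' : aeval (op H W z) P (g⁻¹ • (u : W)) = 0 := by
        refine (aeval_op_comm (C := C) (H := H) (AddMonoidHom.id W) zC z (fun _ => rfl) P _).symm.trans ?_
        rw [hP0]
        rfl
      rw [e', map_zero] at e
      have hh : DistribMulAction.toAddMonoidHom W g (g⁻¹ • (u : W)) = u := smul_inv_smul g _
      rw [hh] at e
      exact e.symm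
    let Q := P.map (algebraMap ℤ R)
    have hQ0 : Q ≠ 0 := (hPm.map _).ne_zero
    let f : H ⧸ C → {x // x ∈ Q.roots.toFinset} := fun x => ⟨w x.out, by
      rw [Multiset.mem_toFinset, mem_roots hQ0, IsRoot.def, eval_map, ← aeval_def]
      exact hroot _⟩
    have hinj : Function.Injective f := by
      intro x y hxy
      have h1 : (x.out * z * x.out⁻¹) • (u0 : W) = (y.out * z * y.out⁻¹) • (u0 : W) :=
        congrArg (fun r : R => (((r : AddMonoid.End U) u0 : U) : W)) (congrArg Subtype.val hxy)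
      set d := (x.out * z * x.out⁻¹)⁻¹ * (y.out * z * y.out⁻¹) with hd
      have hd1 : d = 1 := by
        by_contra hd1
        have h2 : Subgroup.zpowers d ≤ MulAction.stabilizer H (u0 : W) :=
          Subgroup.zpowers_le.mpr (by
            rw [MulAction.mem_stabilizer_iff, hd, mul_smul, ← h1, inv_smul_smul])
        have h3 : z • (u0 : W) = u0 :=
          h2 (hgen d (Z.mul_mem (Z.inv_mem (hcz _)) (hcz _)) hd1 z hzZ)
        exact hu0 (Subtype.ext (hfix _ h3))
      rw [← x.out_eq', ← y.out_eq', QuotientGroup.eq]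
      refine Subgroup.mem_centralizer_iff.mpr fun b hb => ?_
      obtain ⟨i, rfl⟩ := hgen z hzZ hz1 b hb
      have h4 : x.out * z * x.out⁻¹ = y.out * z * y.out⁻¹ := inv_mul_eq_one.mp hd1
      have h5 : Commute z (x.out⁻¹ * y.out) := by
        show z * (x.out⁻¹ * y.out) = x.out⁻¹ * y.out * z
        calc z * (x.out⁻¹ * y.out) = x.out⁻¹ * (x.out * z * x.out⁻¹) * y.out := by group
          _ = _ := by rw [h4]; group
      exact (h5.zpow_left i).eq
    have h := Nat.card_le_card_of_injective f hinj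
    rw [← Subgroup.index_eq_card, Nat.card_eq_fintype_card, Fintype.card_coe] at h
    exact (h.trans (Multiset.toFinset_card_le _)).trans
      ((card_roots' Q).trans natDegree_map_le)
  refine ⟨A.map C.subtype, M.map C.subtype, ?_, ?_⟩
  · rintro _ ⟨a, ha, rfl⟩ _ ⟨m, hm, rfl⟩
    have h1 : (⁅(a : H), (m : H)⁆ : H) = 1 :=
      eq_of_smul_eq_smul (α := W) fun v => by rw [one_smul]; exact hcom a ha m hm v
    exact (commutatorElement_eq_one_iff_mul_comm.mp h1).symm
  · rw [Subgroup.index_map_subtype, Subgroup.index_map_subtype]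
    calc M.index * C.index * (A.index * C.index) * 2 ^ C.index
        ≤ M.index * C.index * (A.index * C.index) * 2 ^ P.natDegree :=
          Nat.mul_le_mul_left _ (Nat.pow_le_pow_right (by norm_num) hdeg)
      _ = C.index ^ 2 * (M.index * A.index * 2 ^ P.natDegree) := by ring
      _ ≤ _ := Nat.mul_le_mul_left _ hidx

end Cfsg.Agent.BC87.SolvableK
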