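import Cfsg.Agent.BC85.BaseTwo.Basic
import Mathlib.GroupTheory.QuotientGroup.Basic
import Mathlib.GroupTheory.Subgroup.Centralizer

/-!
# A minimal normal abelian subgroup as a module
-/

set_option autoImplicit false

namespace Cfsg.Agent.BC87.SolvableK

open Cfsg.Agent.BC85.BaseTwo
open scoped IsMulCommutative

variable {G : Type} [Group G] (N : Subgroup G) [N.Normal] [IsMulCommutative N]

/-- Conjugation, modulo the centralizer. -/
@[reducible] noncomputable def conjAct :
    DistribMulAction (G ⧸ Subgroup.centralizer (N : Set G)) (Additive N) :=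
  DistribMulAction.compHom (Additive N)
    (QuotientGroup.lift (Subgroup.centralizer (N : Set G))
      ({ toFun := fun g => MonoidHom.toAdditive (MulAut.conjNormal g : MulAut N).toMonoidHom
         map_one' := by
           refine AddMonoidHom.ext fun x => ?_
           apply Additive.toMul.injective
           show (MulAut.conjNormal (1 : G) : MulAut N) x.toMul = x.toMul
           rw [map_one]
           rfl
         map_mul' := fun a b => by
           refine AddMonoidHom.ext fun x => ?_
           apply Additive.toMul.injective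
           show (MulAut.conjNormal (a * b) : MulAut N) x.toMul =
             (MulAut.conjNormal a : MulAut N) ((MulAut.conjNormal b : MulAut N) x.toMul)
           rw [map_mul]
           rfl } : G →* AddMonoid.End (Additive N))
      fun g hg => by
        rw [MonoidHom.mem_ker]
        refine AddMonoidHom.ext fun x => ?_
        apply Additive.toMul.injective
        apply Subtype.ext
        show g * (x.toMul : G) * g⁻¹ = (x.toMul : G)
        rw [← Subgroup.mem_centralizer_iff.mp hg _ x.toMul.2, mul_inv_cancel_right])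

attribute [local instance] conjAct

theorem conjAct_mk (g : G) (x : Additive N) :
    (((QuotientGroup.mk' (Subgroup.centralizer (N : Set G)) g) • x).toMul : G) =
      g * (x.toMul : G) * g⁻¹ := rfl

theorem conjAct_faithful :
    FaithfulSMul (G ⧸ Subgroup.centralizer (N : Set G)) (Additive N) := by
  refine ⟨fun {a b} hab => ?_⟩
  obtain ⟨a, rfl⟩ := QuotientGroup.mk'_surjective _ a
  obtain ⟨b, rfl⟩ := QuotientGroup.mk'_surjective _ b
  refine QuotientGroup.eq.mpr (Subgroup.mem_centralizer_iff.mpr fun n hn => ?_)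
  have h := congrArg (fun x : Additive N => (x.toMul : G)) (hab (Additive.ofMul ⟨n, hn⟩))
  simp only [conjAct_mk] at h
  have h' : a * n * a⁻¹ = b * n * b⁻¹ := h
  calc n * (a⁻¹ * b) = a⁻¹ * (a * n * a⁻¹) * b := by group
    _ = a⁻¹ * b * n := by rw [h']; group

theorem conjAct_irr (hN : N ≠ ⊥) (hmin : ∀ K : Subgroup G, K.Normal → K ≤ N → K = ⊥ ∨ K = N) :
    Irr (G ⧸ Subgroup.centralizer (N : Set G)) (Additive N) := by
  obtain ⟨x, hx⟩ := N.ne_bot_iff_exists_ne_one.mp hN
  refine ⟨⟨Additive.ofMul x, fun h => hx (congrArg Additive.toMul h)⟩, fun U hU => ?_⟩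
  let K : Subgroup G :=
    { carrier := {g | ∃ h : g ∈ N, Additive.ofMul (⟨g, h⟩ : N) ∈ U}
      one_mem' := ⟨N.one_mem, U.zero_mem⟩
      mul_mem' := fun {a b} ha hb => ⟨N.mul_mem ha.1 hb.1, U.add_mem ha.2 hb.2⟩
      inv_mem' := fun {a} ha => ⟨N.inv_mem ha.1, U.neg_mem ha.2⟩ }
  have hKn : K.Normal := by
    refine ⟨fun a ha g => ⟨Subgroup.Normal.conj_mem inferInstance a ha.1 g, ?_⟩⟩
    exact hU (QuotientGroup.mk' _ g) _ ha.2
  rcases hmin K hKn fun g hg => hg.1 with h | h
  · refine Or.inl (eq_bot_iff.mpr fun u hu => ?_)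
    have h1 : (u.toMul : G) ∈ K := ⟨u.toMul.2, hu⟩
    rw [h, Subgroup.mem_bot] at h1
    exact AddSubgroup.mem_bot.mpr (Additive.toMul.injective (Subtype.ext h1))
  · refine Or.inr (eq_top_iff.mpr fun u _ => ?_)
    have h1 : (u.toMul : G) ∈ K := h.symm ▸ u.toMul.2
    exact h1.2

end Cfsg.Agent.BC87.SolvableK
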