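import Cfsg.Agent.BC85.BaseThree.Main
import Cfsg.Agent.BC85.BaseThree.Frame
import Cfsg.Agent.BC85.BaseTwo.Heisenberg
import Cfsg.Agent.BC87.SolvableK.Defs

/-!
# The index of a scalar subgroup in its centraliser
-/

set_option autoImplicit false

namespace Cfsg.Agent.BC87.SolvableK

open Cfsg.Agent.BC85 Cfsg.Agent.BC85.BaseTwo
open scoped commutatorElement

variable {H : Type} [Group H] [Finite H] (U : Subgroup H) [U.Normal]

/-- If `k` points of the section detect `N` inside `C(U)`, then `[C(U) : N] ≤ [N : U] ^ k`. -/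
theorem relIndex_le_pow {N : Subgroup H} (hN : IsSec U N) {k : ℕ}
    (t : Fin k → N.map (QuotientGroup.mk' U))
    (hdet : ∀ g ∈ Subgroup.centralizer (U : Set H),
      (∀ i, QuotientGroup.mk' U g * (t i : H ⧸ U) * (QuotientGroup.mk' U g)⁻¹ = t i) → g ∈ N) :
    N.relIndex (Subgroup.centralizer (U : Set H)) ≤ U.relIndex N ^ k := by
  classical
  set C := Subgroup.centralizer (U : Set H) with hC
  haveI := hN.normal
  haveI : (N.map (QuotientGroup.mk' U)).Normal := Subgroup.Normal.map inferInstance (QuotientGroup.mk' U) (QuotientGroup.mk'_surjective U)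
  let f : C ⧸ N.subgroupOf C → (Fin k → N.map (QuotientGroup.mk' U)) := fun x i =>
    ⟨(QuotientGroup.mk' U) (x.out : H) * (t i : H ⧸ U) * ((QuotientGroup.mk' U) (x.out : H))⁻¹,
      (inferInstance : (N.map (QuotientGroup.mk' U)).Normal).conj_mem _ (t i).2 _⟩
  have hf : Function.Injective f := by
    intro x y hxy
    rw [← x.out_eq', ← y.out_eq', QuotientGroup.eq, Subgroup.mem_subgroupOf]
    refine hdet _ (C.mul_mem (C.inv_mem (x.out : C).2) (y.out : C).2) fun i => ?_
    have h1 : (QuotientGroup.mk' U) (x.out : H) * (t i : H ⧸ U) * ((QuotientGroup.mk' U) (x.out : H))⁻¹ =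
        (QuotientGroup.mk' U) (y.out : H) * (t i : H ⧸ U) * ((QuotientGroup.mk' U) (y.out : H))⁻¹ :=
      congrArg Subtype.val (congrFun hxy i)
    rw [Subgroup.coe_mul, Subgroup.coe_inv, map_mul, map_inv]
    calc _ = ((QuotientGroup.mk' U) (x.out : H))⁻¹ * ((QuotientGroup.mk' U) (y.out : H) * (t i : H ⧸ U) * ((QuotientGroup.mk' U) (y.out : H))⁻¹) *
          (QuotientGroup.mk' U) (x.out : H) := by group
      _ = _ := by rw [← h1]; group
  have h := Nat.card_le_card_of_injective f hf
  rw [Nat.card_fun, Nat.card_fin, ← Subgroup.index_eq_card] at h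
  have hcard : Nat.card (N.map (QuotientGroup.mk' U)) = U.relIndex N := by
    rw [← Subgroup.relIndex_ker, QuotientGroup.ker_mk']
  rwa [hcard] at h

/-- Three points of the section detect `N` (three vectors with trivial common stabiliser). -/
theorem relIndex_le_cube [Group.IsSolvable H] {N : Subgroup H} (hN : IsSec U N) :
    N.relIndex (Subgroup.centralizer (U : Set H)) ≤ U.relIndex N ^ 3 := by
  classical
  set π := QuotientGroup.mk' U with hπ
  haveI := hN.normal
  haveI hEn : (N.map π).Normal :=
    Subgroup.Normal.map inferInstance π (QuotientGroup.mk'_surjective U)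
  have hcom : ∀ a ∈ N.map π, ∀ b ∈ N.map π, a * b = b * a := by
    rintro _ ⟨a, ha, rfl⟩ _ ⟨b, hb, rfl⟩
    rw [← commutatorElement_eq_one_iff_mul_comm, ← map_commutatorElement, hπ,
      QuotientGroup.mk'_apply, QuotientGroup.eq_one_iff]
    exact hN.comm a ha b hb
  letI : CommGroup (N.map π) :=
    { (inferInstance : Group (N.map π)) with
      mul_comm := fun a b => Subtype.ext (hcom a a.2 b b.2) }
  let cj : H → Additive (N.map π) → Additive (N.map π) := fun h x =>
    Additive.ofMul (MulAut.conjNormal (π h) (Additive.toMul x))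
  letI : DistribMulAction H (Additive (N.map π)) :=
    { smul := cj
      one_smul := fun x => by
        show cj 1 x = x
        simp only [cj, map_one]
        rfl
      mul_smul := fun a b x => by
        show cj (a * b) x = cj a (cj b x)
        simp only [cj, map_mul]
        rfl
      smul_zero := fun a => by
        show cj a 0 = 0
        simp only [cj, toMul_zero, map_one]
        rfl
      smul_add := fun a x y => by
        show cj a (x + y) = cj a x + cj a y
        simp only [cj, toMul_add, map_mul]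
        rfl }
  have hsm : ∀ (h : H) (x : Additive (N.map π)),
      ((Additive.toMul (h • x) : N.map π) : H ⧸ U) =
        π h * (Additive.toMul x : N.map π) * (π h)⁻¹ := fun h x => rfl
  have hUker : ∀ u ∈ U, π u = 1 := fun u hu => (QuotientGroup.eq_one_iff u).mpr hu
  have hcr : CR H (Additive (N.map π)) := by
    intro X hX
    let W : Subgroup H :=
      { carrier := {g | ∃ h : π g ∈ N.map π, Additive.ofMul (⟨π g, h⟩ : N.map π) ∈ X}
        one_mem' := ⟨by rw [map_one]; exact one_mem _, by
          convert X.zero_mem using 1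
          exact congrArg Additive.ofMul (Subtype.ext (map_one π))⟩
        mul_mem' := by
          rintro a b ⟨ha, ha'⟩ ⟨hb, hb'⟩
          refine ⟨by rw [map_mul]; exact mul_mem ha hb, ?_⟩
          convert X.add_mem ha' hb' using 1
          exact congrArg Additive.ofMul (Subtype.ext (map_mul π a b))
        inv_mem' := by
          rintro a ⟨ha, ha'⟩
          refine ⟨by rw [map_inv]; exact inv_mem ha, ?_⟩
          convert X.neg_mem ha' using 1
          exact congrArg Additive.ofMul (Subtype.ext (map_inv π a)) }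
    have hWn : W.Normal := by
      refine ⟨?_⟩
      rintro a ⟨ha, ha'⟩ g
      refine ⟨by rw [map_mul, map_mul, map_inv]; exact hEn.conj_mem _ ha _, ?_⟩
      convert hX g _ ha' using 1
      apply Additive.toMul.injective
      apply Subtype.ext
      rw [hsm]
      show π (g * a * g⁻¹) = _
      rw [map_mul, map_mul, map_inv]
      rfl
    have hUW : U ≤ W := fun u hu => ⟨by rw [hUker u hu]; exact one_mem _, by
      convert X.zero_mem using 1
      exact congrArg Additive.ofMul (Subtype.ext (hUker u hu))⟩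
    have hWN : W ≤ N := by
      rintro a ⟨⟨b, hb, he⟩, -⟩
      have h1 : b⁻¹ * a ∈ U := (QuotientGroup.eq.mp he)
      have h2 := N.mul_mem hb (hN.le h1)
      rwa [mul_inv_cancel_left] at h2
    obtain ⟨W', hW'n, hUW', hW'N, hinf, hsup⟩ := hN.compl W hWn hUW hWN
    let Y : AddSubgroup (Additive (N.map π)) :=
      { carrier := {x | ((Additive.toMul x : N.map π) : H ⧸ U) ∈ W'.map π}
        zero_mem' := (W'.map π).one_mem
        add_mem' := fun {a b} ha hb => (W'.map π).mul_mem ha hb
        neg_mem' := fun {a} ha => (W'.map π).inv_mem ha }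
    refine ⟨Y, ?_, ?_, ?_⟩
    · intro h x hx
      show _ ∈ W'.map π
      rw [hsm]
      exact (Subgroup.Normal.map hW'n π (QuotientGroup.mk'_surjective U)).conj_mem _ hx _
    · refine le_bot_iff.mp ?_
      rintro x ⟨hx, a, ha, he⟩
      rw [AddSubgroup.mem_bot]
      apply Additive.toMul.injective
      apply Subtype.ext
      have haW : a ∈ W := by
        have hm : π a ∈ N.map π := by rw [he]; exact (Additive.toMul x).2
        refine ⟨hm, ?_⟩
        have e1 : (⟨π a, hm⟩ : N.map π) = Additive.toMul x := Subtype.ext he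
        rw [e1]
        exact hx
      have haU : a ∈ U := hinf ▸ (⟨haW, ha⟩ : a ∈ W ⊓ W')
      rw [← he, hUker a haU]
      rfl
    · refine eq_top_iff.mpr fun x _ => ?_
      obtain ⟨n, hn, hnx⟩ := (Additive.toMul x).2
      haveI := hW'n
      obtain ⟨w, hw, w', hw', rfl⟩ :=
        Subgroup.mem_sup_of_normal_right.mp (hsup.symm ▸ hn : n ∈ W ⊔ W')
      obtain ⟨hwE, hwX⟩ := hw
      refine AddSubgroup.mem_sup.mpr ⟨_, hwX,
        Additive.ofMul (⟨π w', Subgroup.mem_map_of_mem π (hW'N hw')⟩ : N.map π),
        Subgroup.mem_map_of_mem π hw', ?_⟩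
      apply Additive.toMul.injective
      apply Subtype.ext
      show π w * π w' = _
      rw [← map_mul]
      exact hnx
  obtain ⟨t, ht⟩ := BaseThree.lin3_all (Nat.card (Additive (N.map π))) (Additive (N.map π)) H
    le_rfl inferInstance hcr
  refine relIndex_le_pow U hN (fun i => Additive.toMul (t i)) fun g hg hfix => ?_
  have htriv := ht g fun i => Additive.toMul.injective (Subtype.ext ((hsm g (t i)).trans (hfix i)))
  refine hN.faithful g hg fun y hy => ?_
  have h1 : π g * π y * (π g)⁻¹ = π y :=
    congrArg (fun x => ((Additive.toMul x : N.map π) : H ⧸ U))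
      (htriv (Additive.ofMul (⟨π y, Subgroup.mem_map_of_mem π hy⟩ : N.map π)))
  rw [← QuotientGroup.eq_one_iff (N := U)]
  show π ⁅g, y⁆ = 1
  rw [map_commutatorElement, commutatorElement_eq_one_iff_mul_comm]
  exact mul_inv_eq_iff_eq_mul.mp h1

/-- Two points detect `N` when `[N : U]` is the square of a prime. -/
theorem relIndex_le_sq {N : Subgroup H} (hN : IsSec U N) {e : ℕ} (he : e.Prime)
    (hidx : U.relIndex N = e ^ 2) :
    N.relIndex (Subgroup.centralizer (U : Set H)) ≤ U.relIndex N ^ 2 := by
  classical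
  set π := QuotientGroup.mk' U with hπ
  have hcard : Nat.card (N.map π) = e ^ 2 := by
    rw [← hidx, ← Subgroup.relIndex_ker, hπ, QuotientGroup.ker_mk']
  haveI : Nontrivial (N.map π) := Finite.one_lt_card_iff_nontrivial.mp (by
    rw [hcard]; exact Nat.one_lt_pow two_ne_zero he.one_lt)
  obtain ⟨x, hx⟩ := exists_ne (1 : N.map π)
  obtain ⟨y, hy⟩ : ∃ y : N.map π, Subgroup.closure ({x, y} : Set (N.map π)) = ⊤ := by
    by_cases hxt : Subgroup.zpowers x = ⊤
    · refine ⟨x, top_le_iff.mp (hxt ▸ ?_)⟩
      exact Subgroup.zpowers_le.mpr (Subgroup.subset_closure (Set.mem_insert x _))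
    obtain ⟨y, hy⟩ : ∃ y, y ∉ Subgroup.zpowers x := by
      by_contra h
      push Not at h
      exact hxt (eq_top_iff.mpr fun y _ => h y)
    refine ⟨y, ?_⟩
    set P := Subgroup.closure ({x, y} : Set (N.map π))
    have hle : Subgroup.zpowers x ≤ P :=
      Subgroup.zpowers_le.mpr (Subgroup.subset_closure (Set.mem_insert x _))
    have hyP : y ∈ P := Subgroup.subset_closure (Set.mem_insert_of_mem x rfl)
    refine Subgroup.eq_top_of_card_eq _ ?_
    have h1 := P.card_subgroup_dvd_card
    rw [hcard] at h1 ⊢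
    obtain ⟨i, hi, hPi⟩ := (Nat.dvd_prime_pow he).mp h1
    have h2 := Subgroup.card_dvd_of_le hle
    rw [hPi] at h2
    obtain ⟨j, hj, hZj⟩ := (Nat.dvd_prime_pow he).mp h2
    have hj0 : j ≠ 0 := by
      rintro rfl
      rw [pow_zero, Subgroup.card_eq_one] at hZj
      exact hx (Subgroup.zpowers_eq_bot.mp hZj)
    have hji : j ≠ i := by
      rintro rfl
      exact hy (Subgroup.eq_of_le_of_card_ge hle (by rw [hPi, hZj]) ▸ hyP)
    rw [hPi, show i = 2 by omega]
  refine relIndex_le_pow U hN ![x, y] fun g hg hfix => ?_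
  refine hN.faithful g hg fun z hz => ?_
  let S : Subgroup (N.map π) :=
    (Subgroup.centralizer ({π g} : Set (H ⧸ U))).subgroupOf (N.map π)
  have hmem : ∀ i, (![x, y] i) ∈ S := fun i => by
    rw [Subgroup.mem_subgroupOf, Subgroup.mem_centralizer_singleton_iff]
    exact (mul_inv_eq_iff_eq_mul.mp (hfix i)).symm
  have htop : (⊤ : Subgroup (N.map π)) ≤ S := by
    rw [← hy, Subgroup.closure_le]
    rintro w (rfl | rfl)
    · exact hmem 0
    · exact hmem 1
  have h1 := htop (Subgroup.mem_top ⟨π z, Subgroup.mem_map_of_mem π hz⟩)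
  rw [Subgroup.mem_subgroupOf, Subgroup.mem_centralizer_singleton_iff] at h1
  rw [← QuotientGroup.eq_one_iff (N := U)]
  show π ⁅g, z⁆ = 1
  rw [map_commutatorElement, commutatorElement_eq_one_iff_mul_comm]
  exact h1.symm

theorem pow_eight_le {r : ℕ} (hr : 4 ≤ r) : r ^ 8 ≤ 64 ^ (r - 1) := by
  induction r, hr using Nat.le_induction with
  | base => norm_num
  | succ r hr ih =>
    have h1 : 4 ^ 8 * (r + 1) ^ 8 ≤ 5 ^ 8 * r ^ 8 := by
      rw [← mul_pow, ← mul_pow]
      exact Nat.pow_le_pow_left (by omega) 8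
    rw [show r + 1 - 1 = (r - 1) + 1 by omega, pow_succ 64]
    generalize (r + 1) ^ 8 = X at h1 ⊢
    generalize r ^ 8 = Y at h1 ih
    generalize 64 ^ (r - 1) = P at ih ⊢
    norm_num at h1
    omega

variable {V K : Type} [AddCommGroup V] [Finite V] [DistribMulAction H V] [FaithfulSMul H V]
  [Field K] [Finite K] [Module K V]

/-- `[C(U) : U] ≤ 64 ^ (r - 1)` for a module of dimension `r` over the field of scalars. -/
theorem relIndex_centralizer_le_pow [Group.IsSolvable H] (ι : U →* Kˣ)
    (hι : Function.Injective ι) (hιv : ∀ (u : U) (v : V), (u : H) • v = (ι u : K) • v)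
    (hlin : ∀ g ∈ Subgroup.centralizer (U : Set H), ∀ (k : K) (v : V), g • k • v = k • g • v)
    {N : Subgroup H} (hN : IsSec U N) (hV : ∃ v : V, v ≠ 0) :
    U.relIndex (Subgroup.centralizer (U : Set H)) ≤ 64 ^ (Module.finrank K V - 1) := by
  obtain ⟨e, he⟩ := hN.square
  have h1 := card_sec_le U ι hι hιv hlin N hN hV
  rw [he] at h1
  have her : e ≤ Module.finrank K V := Nat.pow_le_pow_iff_left two_ne_zero |>.mp h1
  have he2 : 2 ≤ e := by
    by_contra h
    have h2 : U.relIndex N ≤ 1 := by
      rw [he]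
      interval_cases e <;> simp
    have h3 : U.relIndex N ≠ 0 := Subgroup.index_ne_zero_of_finite
    exact hN.ne (le_antisymm (Subgroup.relIndex_eq_one.mp (by omega)) hN.le)
  rw [← Subgroup.relIndex_mul_relIndex U N _ hN.le hN.cen]
  rcases lt_or_ge e 4 with hsmall | hbig
  · have hp : e.Prime := by interval_cases e <;> norm_num
    refine (Nat.mul_le_mul_left _ (relIndex_le_sq U hN hp he)).trans ?_
    rw [he]
    calc e ^ 2 * (e ^ 2) ^ 2 = e ^ 6 := by ring
      _ ≤ 64 ^ (e - 1) := by interval_cases e <;> norm_num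
      _ ≤ _ := Nat.pow_le_pow_right (by norm_num) (by omega)
  · refine (Nat.mul_le_mul_left _ (relIndex_le_cube U hN)).trans ?_
    rw [he]
    calc e ^ 2 * (e ^ 2) ^ 3 = e ^ 8 := by ring
      _ ≤ 64 ^ (e - 1) := pow_eight_le hbig
      _ ≤ _ := Nat.pow_le_pow_right (by norm_num) (by omega)

end Cfsg.Agent.BC87.SolvableK
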