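import Cfsg.Agent.BC85.BaseTwo.Field
import Cfsg.Agent.BC87.SolvableK.Blocks
import Cfsg.Agent.BC87.SolvableK.Section
import Mathlib.FieldTheory.Fixed

/-!
# Small index subgroups acting as abelian groups: irreducible modules
-/

set_option autoImplicit false

namespace Cfsg.Agent.BC87.SolvableK

open Cfsg.Agent.BC85 Cfsg.Agent.BC85.BaseTwo
open scoped commutatorElement

theorem sq_le_pow {s : ℕ} (hs : 1 ≤ s) : s ^ 2 ≤ 64 ^ (s - 1) := by
  induction s, hs using Nat.le_induction with
  | base => norm_num
  | succ s hs ih =>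
    rw [show s + 1 - 1 = (s - 1) + 1 by omega, pow_succ 64]
    nlinarith

/-- The irreducible faithful case. -/
theorem idx_irr_faithful {n : ℕ} (hb : ∀ r < n, Bound r) {V H K : Type} [AddCommGroup V] [Finite V]
    [Group H] [Finite H] [DistribMulAction H V] [FaithfulSMul H V] [Field K] [Finite K] [Module K V]
    [SMulCommClass H K V] (hsol : Group.IsSolvable H) (hirr : Irr H V)
    (hn : Module.finrank K V = n) : Idx H V (64 ^ (n - 1)) := by
  classical
  haveI : Group.IsSolvable H := hsol
  obtain ⟨U, ⟨hUn, hUab⟩, hUmax⟩ := Set.Finite.exists_maximal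
    (s := {A : Subgroup H | A.Normal ∧ ∀ a ∈ A, ∀ b ∈ A, a * b = b * a}) (Set.toFinite _)
    ⟨⊥, inferInstance, fun a ha b hb => by
      rw [Subgroup.mem_bot.mp ha, Subgroup.mem_bot.mp hb]⟩
  haveI := hUn
  have hmax : ∀ A : Subgroup H, A.Normal → U ≤ A → (∀ a ∈ A, ∀ b ∈ A, a * b = b * a) → A = U :=
    fun A hA hUA hAab => le_antisymm (hUmax ⟨hA, hAab⟩ hUA) hUA
  set Φ := DistribMulAction.toAddMonoidEnd H V with hΦ
  let σ : K →+* AddMonoid.End V := Module.toAddMonoidEnd K V
  have hσ : ∀ (h : H) (k : K), Φ h * σ k = σ k * Φ h := fun h k =>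
    AddMonoidHom.ext fun v => smul_comm h k v
  let G : Set (AddMonoid.End V) := Φ '' (U : Set H) ∪ Set.range σ
  let R : Subring (AddMonoid.End V) := Subring.closure G
  haveI : Finite (AddMonoid.End V) := Finite.of_injective _ DFunLike.coe_injective
  have hcomm : ∀ a ∈ R, ∀ b ∈ R, a * b = b * a := by
    have h1 : R ≤ Subring.centralizer G := by
      rw [Subring.closure_le]
      rintro _ (⟨u, hu, rfl⟩ | ⟨k, rfl⟩) <;> refine Subring.mem_centralizer_iff.mpr ?_
      · rintro _ (⟨w, hw, rfl⟩ | ⟨l, rfl⟩)
        · rw [← map_mul, ← map_mul, hUab w hw u hu]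
        · exact (hσ u l).symm
      · rintro _ (⟨w, hw, rfl⟩ | ⟨l, rfl⟩)
        · exact hσ w k
        · rw [← map_mul, ← map_mul, mul_comm]
    have h2 : R ≤ Subring.centralizer (R : Set (AddMonoid.End V)) := by
      rw [Subring.closure_le]
      intro g hg
      refine Subring.mem_centralizer_iff.mpr fun r hr => ?_
      exact (Subring.mem_centralizer_iff.mp (h1 hr) g hg).symm
    exact fun a ha b hb => (Subring.mem_centralizer_iff.mp (h2 ha) b hb).symm
  have hconj : ∀ h : H, ∀ f ∈ R, endConj h f ∈ R := by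
    intro h
    have h1 : R ≤ R.comap (endConj h) := by
      rw [Subring.closure_le]
      rintro _ (⟨u, hu, rfl⟩ | ⟨k, rfl⟩)
      · refine Subring.mem_comap.mpr
          (Subring.subset_closure (Or.inl ⟨h * u * h⁻¹, hUn.conj_mem u hu h, ?_⟩))
        show Φ (h * u * h⁻¹) = Φ h * Φ u * Φ h⁻¹
        rw [map_mul, map_mul]
      · refine Subring.mem_comap.mpr (Subring.subset_closure (Or.inr ⟨k, ?_⟩))
        show σ k = Φ h * σ k * Φ h⁻¹
        rw [hσ, mul_assoc, ← map_mul, mul_inv_cancel, map_one, mul_one]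
    exact fun f hf => h1 hf
  letI : CommRing R := { (inferInstance : Ring R) with mul_comm := fun a b => Subtype.ext (hcomm a a.2 b b.2) }
  -- nilpotent elements vanish
  have hnil : ∀ f : R, IsNilpotent f → f = 0 := by
    let J : AddSubgroup V :=
      { carrier := {v | ∀ f : R, IsNilpotent f → (f : AddMonoid.End V) v = 0}
        zero_mem' := fun f _ => map_zero (f : AddMonoid.End V)
        add_mem' := fun {a b} ha hb f hf => by rw [map_add, ha f hf, hb f hf, add_zero]
        neg_mem' := fun {a} ha f hf => by rw [map_neg, ha f hf, neg_zero] }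
    have hJ : Inv H V J := by
      intro h v hv f hf
      have hf' : IsNilpotent (⟨endConj h⁻¹ f, hconj h⁻¹ f f.2⟩ : R) := by
        obtain ⟨k, hk⟩ := hf
        refine ⟨k, Subtype.ext ?_⟩
        rw [SubmonoidClass.coe_pow, ← map_pow, ← SubmonoidClass.coe_pow, hk]
        exact map_zero _
      have h1 : endConj h⁻¹ (f : AddMonoid.End V) v = 0 := hv _ hf'
      rw [endConj_apply, inv_inv, smul_eq_zero_iff_eq] at h1
      exact h1
    rcases hirr.2 J hJ with hb | ht
    · exfalso
      -- a minimal invariant subgroup of the ring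
      obtain ⟨W, ⟨hW0, hWinv⟩, hWmin⟩ := Set.Finite.exists_minimal
        (s := {W : AddSubgroup V | W ≠ ⊥ ∧ ∀ f : R, ∀ w ∈ W, (f : AddMonoid.End V) w ∈ W}) (Set.toFinite _)
        ⟨⊤, fun h => by
          obtain ⟨v, hv⟩ := hirr.1
          exact hv (AddSubgroup.mem_bot.mp (h ▸ AddSubgroup.mem_top v)), fun _ _ _ => trivial⟩
      apply hW0
      rw [eq_bot_iff, ← hb]
      intro w hw f hf
      by_contra hne
      let W' : AddSubgroup V := W.map (f : AddMonoid.End V)
      have hle : W' ≤ W := by
        intro x hx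
        obtain ⟨y, hy, rfl⟩ := AddSubgroup.mem_map.mp hx
        exact hWinv f y hy
      have hmem : W' ∈ {W : AddSubgroup V | W ≠ ⊥ ∧ ∀ f : R, ∀ w ∈ W, (f : AddMonoid.End V) w ∈ W} := by
        refine ⟨fun h => hne (AddSubgroup.mem_bot.mp (h ▸ AddSubgroup.mem_map_of_mem _ hw)), ?_⟩
        intro g x hx
        obtain ⟨y, hy, rfl⟩ := AddSubgroup.mem_map.mp hx
        refine AddSubgroup.mem_map.mpr ⟨(g : AddMonoid.End V) y, hWinv g y hy, ?_⟩
        show ((f : AddMonoid.End V) * g) y = ((g : AddMonoid.End V) * f) y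
        rw [hcomm f f.2 g g.2]
      have heq : W' = W := le_antisymm hle (hWmin hmem hle)
      obtain ⟨k, hk⟩ := hf
      have hpow : ∀ m, ∀ x ∈ W, ∃ y ∈ W, (((f ^ m : R) : AddMonoid.End V)) y = x := by
        intro m
        induction m with
        | zero => exact fun x hx => ⟨x, hx, by rw [pow_zero]; rfl⟩
        | succ m ih =>
          intro x hx
          obtain ⟨y, hy, rfl⟩ := ih x hx
          obtain ⟨z, hz, rfl⟩ := AddSubgroup.mem_map.mp (heq ▸ hy : y ∈ W')
          exact ⟨z, hz, by rw [pow_succ]; rfl⟩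
      obtain ⟨y, -, hy⟩ := hpow k w hw
      rw [hk] at hy
      exact hne (by rw [← hy]; exact map_zero _)
    · exact fun f hf => Subtype.ext (AddMonoidHom.ext fun v => (ht ▸ AddSubgroup.mem_top v : v ∈ J) f hf)
  -- idempotents
  by_cases hid : ∃ f : R, f * f = f ∧ f ≠ 0 ∧ f ≠ 1
  · obtain ⟨f0, hf0, hf00, hf01⟩ := hid
    let At : Type := {e : R // e * e = e ∧ e ≠ 0 ∧ ∀ f : R, f * f = f → f * e = f → f = 0 ∨ f = e}
    haveI : Fintype At := Fintype.ofFinite At
    have horth : ∀ a b : At, a ≠ b → a.1 * b.1 = 0 := by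
      intro a b hab
      have hi : a.1 * b.1 * (a.1 * b.1) = a.1 * b.1 := by
        rw [mul_mul_mul_comm, a.2.1, b.2.1]
      rcases a.2.2.2 (a.1 * b.1) hi (by rw [mul_right_comm, a.2.1]) with h | h
      · exact h
      · rcases b.2.2.2 (a.1 * b.1) hi (by rw [mul_assoc, b.2.1]) with h' | h'
        · exact h'
        · exact absurd (Subtype.ext (h.symm.trans h')) hab
    have hatom : ∀ f : R, f * f = f → f ≠ 0 → ∃ e : At, e.1 * f = e.1 := by
      intro f hf hf0'
      haveI : Fintype R := Fintype.ofFinite R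
      let S : Finset R := Finset.univ.filter fun g => g * g = g ∧ g ≠ 0 ∧ g * f = g
      obtain ⟨g, hg, hgmin⟩ := S.exists_min_image
        (fun g => (Finset.univ.filter fun x : R => x * x = x ∧ x * g = x).card)
        ⟨f, Finset.mem_filter.mpr ⟨Finset.mem_univ _, hf, hf0', hf⟩⟩
      obtain ⟨-, hg1, hg2, hg3⟩ := Finset.mem_filter.mp hg
      refine ⟨⟨g, hg1, hg2, fun x hx hxg => ?_⟩, hg3⟩
      by_contra hne
      push Not at hne
      have hxf : x * f = x := by rw [← hxg, mul_assoc, hg3]
      have hle := hgmin x (Finset.mem_filter.mpr ⟨Finset.mem_univ _, hx, hne.1, hxf⟩)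
      have hlt : (Finset.univ.filter fun y : R => y * y = y ∧ y * x = y).card <
          (Finset.univ.filter fun y : R => y * y = y ∧ y * g = y).card := by
        refine Finset.card_lt_card ⟨fun y hy => ?_, fun h => ?_⟩
        · obtain ⟨-, hy1, hy2⟩ := Finset.mem_filter.mp hy
          exact Finset.mem_filter.mpr ⟨Finset.mem_univ _, hy1, by rw [← hy2, mul_assoc, hxg]⟩
        · have := Finset.mem_filter.mp (h (Finset.mem_filter.mpr ⟨Finset.mem_univ g, hg1, hg1⟩))
          exact hne.2 (hxg.symm.trans ((mul_comm x g).trans this.2.2))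
      omega
    have hsum : ∑ a : At, a.1 = 1 := by
      by_contra hne
      set t := ∑ a : At, a.1 with ht
      have hta : ∀ a : At, a.1 * t = a.1 := fun a => by
        rw [ht, Finset.mul_sum, Finset.sum_eq_single a]
        · exact a.2.1
        · exact fun b _ hb => horth a b (Ne.symm hb)
        · exact fun h => absurd (Finset.mem_univ a) h
      have htt : t * t = t := by
        conv_lhs => arg 1; rw [ht]
        rw [Finset.sum_mul]
        exact Finset.sum_congr rfl fun a _ => hta a
      have h1 : (1 - t) * (1 - t) = 1 - t := by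
        rw [mul_sub, mul_one, sub_mul, one_mul, htt, sub_self, sub_zero]
      obtain ⟨a, ha⟩ := hatom (1 - t) h1 (fun h => hne (sub_eq_zero.mp h).symm)
      rw [mul_sub, mul_one, hta, sub_self] at ha
      exact a.2.2.1 ha.symm
    let perm : H → At → At := fun h a => ⟨⟨endConj h a.1, hconj h _ a.1.2⟩, by
      refine ⟨Subtype.ext ?_, fun hh => ?_, fun f hf hfe => ?_⟩
      · show endConj h (a.1 : AddMonoid.End V) * endConj h a.1 = endConj h a.1
        rw [← map_mul]
        exact congrArg (endConj h) (congrArg Subtype.val a.2.1)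
      · apply a.2.2.1
        apply Subtype.ext
        have h1 : endConj h (a.1 : AddMonoid.End V) = 0 := congrArg Subtype.val hh
        have h2 := congrArg (endConj h⁻¹) h1
        rw [endConj_endConj, inv_mul_cancel, endConj_one, map_zero] at h2
        exact h2
      · have h1 : endConj h⁻¹ ((f : AddMonoid.End V) * endConj h a.1) = endConj h⁻¹ f :=
          congrArg (endConj h⁻¹) (congrArg Subtype.val hfe)
        rw [map_mul, endConj_endConj, inv_mul_cancel, endConj_one] at h1
        rcases a.2.2.2 ⟨endConj h⁻¹ f, hconj h⁻¹ f f.2⟩ (Subtype.ext (by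
          show endConj h⁻¹ (f : AddMonoid.End V) * endConj h⁻¹ f = endConj h⁻¹ f
          rw [← map_mul]
          exact congrArg (endConj h⁻¹) (congrArg Subtype.val hf))) (Subtype.ext h1) with h2 | h2
        · left
          apply Subtype.ext
          have h3 := congrArg (endConj h) (congrArg Subtype.val h2)
          rw [endConj_endConj, mul_inv_cancel, endConj_one] at h3
          exact h3.trans (map_zero _)
        · right
          apply Subtype.ext
          have h3 := congrArg (endConj h) (congrArg Subtype.val h2)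
          rw [endConj_endConj, mul_inv_cancel, endConj_one] at h3
          exact h3⟩
    letI : MulAction H At :=
      { smul := perm
        one_smul := fun a => Subtype.ext (Subtype.ext (endConj_one _))
        mul_smul := fun g h a => Subtype.ext (Subtype.ext (endConj_endConj g h _).symm) }
    have hsumv : ∀ v : V, ∑ a : At, (a.1 : AddMonoid.End V) v = v := by
      intro v
      have h1 := congrArg (fun r : R => (r : AddMonoid.End V) v) hsum
      simp only [AddSubmonoidClass.coe_finset_sum, OneMemClass.coe_one] at h1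
      refine Eq.trans ?_ h1
      exact (AddMonoidHom.finset_sum_apply (fun a : At => (a.1 : AddMonoid.End V)) Finset.univ v).symm
    obtain ⟨a0, ha0⟩ := hatom f0 hf0 hf00
    obtain ⟨a1, ha1⟩ := hatom (1 - f0) (by rw [mul_sub, mul_one, sub_mul, one_mul, hf0, sub_self, sub_zero])
      (fun h => hf01 (sub_eq_zero.mp h).symm)
    have h01 : a0 ≠ a1 := by
      rintro rfl
      rw [mul_sub, mul_one, ha0, sub_self] at ha1
      exact a0.2.2.1 ha1.symm
    refine idx_of_blocks hb hsol hirr hn (I := At) (fun a => (a.1 : AddMonoid.End V)) (fun a k v => ?_)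
      (fun a v => ?_) (fun a b v hab => ?_) hsumv (fun h a v => ?_) (fun a => ?_) a0 a1 h01
    · exact congrArg (fun f : AddMonoid.End V => f v)
        (hcomm (a.1 : AddMonoid.End V) a.1.2 (σ k) (Subring.subset_closure (Or.inr ⟨k, rfl⟩)))
    · exact congrArg (fun r : R => (r : AddMonoid.End V) v) a.2.1
    · exact congrArg (fun r : R => (r : AddMonoid.End V) v) (horth a b hab)
    · exact (endConj_smul h (a.1 : AddMonoid.End V) v).symm
    · by_contra h
      push Not at h
      exact a.2.2.1 (Subtype.ext (AddMonoidHom.ext h))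
  -- the ring is a field
  push Not at hid
  have hfield : IsField R := by
    refine ⟨⟨0, 1, fun h => ?_⟩, mul_comm, fun {a} ha => ?_⟩
    · obtain ⟨v, hv⟩ := hirr.1
      exact hv (congrArg (fun r : R => (r : AddMonoid.End V) v) h).symm
    obtain ⟨i, j, hij, hpow⟩ := Finite.exists_ne_map_eq_of_infinite (fun k : ℕ => a ^ k)
    wlog hlt : i < j generalizing i j
    · exact this j i hij.symm hpow.symm (by omega)
    have hper : ∀ t m, i ≤ m → a ^ (m + t * (j - i)) = a ^ m := by
      intro t
      induction t with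
      | zero => intro m _; rw [Nat.zero_mul, add_zero]
      | succ t ih =>
        intro m hm
        rw [show m + (t + 1) * (j - i) = (m + (j - i)) + t * (j - i) by rw [add_mul, one_mul]; omega,
          ih _ (by omega), show m + (j - i) = j + (m - i) by omega, pow_add, ← hpow, ← pow_add,
          show i + (m - i) = m by omega]
    set m := (i + 1) * (j - i) with hm
    have him : i + 1 ≤ m := Nat.le_mul_of_pos_right _ (by omega)
    have hidm : a ^ m * a ^ m = a ^ m := by
      rw [← pow_add]
      conv_lhs => arg 2; arg 2; rw [hm]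
      exact hper (i + 1) m (by omega)
    rcases eq_or_ne (a ^ m) 0 with h0 | h0
    · exact absurd (hnil a ⟨m, h0⟩) ha
    · exact ⟨a ^ (m - 1), by rw [← pow_succ', show m - 1 + 1 = m by omega, hid _ hidm h0]⟩
  letI : Field R := hfield.toField
  let σR : K →+* R := σ.codRestrict R fun k => Subring.subset_closure (Or.inr ⟨k, rfl⟩)
  letI : Algebra K R := σR.toAlgebra
  haveI : IsScalarTower K R V := ⟨fun k r v => by
    rw [Algebra.smul_def, mul_smul]
    rfl⟩
  haveI : Module.Finite K R := Module.Finite.of_finite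
  haveI : Module.Finite R V := Module.Finite.of_finite
  set s := Module.finrank K R with hs
  set r := Module.finrank R V with hr
  have hn' : n = s * r := by rw [← hn, hs, hr, Module.finrank_mul_finrank K R V]
  have hs1 : 1 ≤ s := Module.finrank_pos
  have hr1 : 1 ≤ r := by
    obtain ⟨v, hv⟩ := hirr.1
    exact Module.finrank_pos_iff_exists_ne_zero.mpr ⟨v, hv⟩
  let ι : U →* Rˣ := MonoidHom.toHomUnits
    { toFun := fun u : U => (⟨Φ (u : H), Subring.subset_closure (Or.inl ⟨u, u.2, rfl⟩)⟩ : R)
      map_one' := Subtype.ext (by show Φ ((1 : U) : H) = 1; rw [OneMemClass.coe_one, map_one])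
      map_mul' := fun a b => Subtype.ext (by
        show Φ ((a * b : U) : H) = Φ (a : H) * Φ (b : H)
        rw [Subgroup.coe_mul, map_mul]) }
  have hιinj : Function.Injective ι := by
    intro a b h
    apply Subtype.ext
    refine eq_of_smul_eq_smul (α := V) fun v => ?_
    exact congrArg (fun r : Rˣ => ((r : R) : AddMonoid.End V) v) h
  have hιv : ∀ (u : U) (v : V), (u : H) • v = (ι u : R) • v := fun u v => rfl
  have hlin : ∀ g ∈ Subgroup.centralizer (U : Set H), ∀ (k : R) (v : V), g • k • v = k • g • v := by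
    intro g hg k v
    have h1 : R ≤ Subring.centralizer {Φ g} := by
      rw [Subring.closure_le]
      rintro _ (⟨u, hu, rfl⟩ | ⟨l, rfl⟩) <;> refine Subring.mem_centralizer_iff.mpr ?_ <;>
        rintro _ rfl
      · rw [← map_mul, ← map_mul, Subgroup.mem_centralizer_iff.mp hg u hu]
      · exact hσ g l
    exact congrArg (fun f : AddMonoid.End V => f v) (Subring.mem_centralizer_iff.mp (h1 k.2) (Φ g) rfl)
  -- the Galois action on the ring of scalars
  let ψ₀ : H → (R →+* R) := fun h =>
    ((endConj h).comp R.subtype).codRestrict R fun f => hconj h f f.2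
  have hψ : ∀ (a b : H) (f : R), ψ₀ a (ψ₀ b f) = ψ₀ (a * b) f := fun a b f =>
    Subtype.ext (endConj_endConj a b _)
  have hψ1 : ∀ f : R, ψ₀ 1 f = f := fun f => Subtype.ext (endConj_one _)
  let ψ : H →* (R ≃ₐ[K] R) :=
    { toFun := fun h =>
        { toFun := ψ₀ h
          invFun := ψ₀ h⁻¹
          left_inv := fun f => by rw [hψ, inv_mul_cancel, hψ1]
          right_inv := fun f => by rw [hψ, mul_inv_cancel, hψ1]
          map_mul' := map_mul _
          map_add' := map_add _
          commutes' := fun k => Subtype.ext (by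
            show Φ h * σ k * Φ h⁻¹ = σ k
            rw [hσ, mul_assoc, ← map_mul, mul_inv_cancel, map_one, mul_one]) }
      map_one' := AlgEquiv.ext hψ1
      map_mul' := fun a b => AlgEquiv.ext fun f => (hψ a b f).symm }
  have hker : ψ.ker ≤ Subgroup.centralizer (U : Set H) := by
    intro h hh
    refine Subgroup.mem_centralizer_iff.mpr fun u hu => ?_
    have h1 : ψ h (ι ⟨u, hu⟩ : R) = (ι ⟨u, hu⟩ : R) := by rw [MonoidHom.mem_ker.mp hh]; rfl
    have h2 : Φ h * Φ u * Φ h⁻¹ = Φ u := congrArg Subtype.val h1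
    rw [← map_mul, ← map_mul] at h2
    have h3 : h * u * h⁻¹ = u :=
      eq_of_smul_eq_smul (α := V) fun v => congrArg (fun f : AddMonoid.End V => f v) h2
    exact (mul_inv_eq_iff_eq_mul.mp h3).symm
  set C := Subgroup.centralizer (U : Set H) with hC
  have hCs : C.index ≤ s := by
    refine (Nat.le_of_dvd (Nat.pos_of_ne_zero Subgroup.index_ne_zero_of_finite)
      (Subgroup.index_dvd_of_le hker)).trans ?_
    rw [Subgroup.index_ker]
    refine (Subgroup.card_le_card_group _).trans ?_
    rw [Nat.card_eq_fintype_card]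
    exact AlgEquiv.card_le (F := K) (K := R)
  have hUC : U ≤ C := fun a ha => Subgroup.mem_centralizer_iff.mpr fun b hb' => hUab b hb' a ha
  refine ⟨U, C, hUC, fun a ha m hm v => ?_, ?_⟩
  · rw [commutatorElement_eq_one_iff_mul_comm.mpr (Subgroup.mem_centralizer_iff.mp hm a ha), one_smul]
  have hsr : (s - 1) + (r - 1) ≤ n - 1 := by
    obtain ⟨s', hs'⟩ : ∃ s', s = s' + 1 := ⟨s - 1, by omega⟩
    obtain ⟨r', hr'⟩ : ∃ r', r = r' + 1 := ⟨r - 1, by omega⟩
    have e1 : (s' + 1) * (r' + 1) = s' + r' + (s' * r') + 1 := by ring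
    rw [hn', hs', hr', e1]
    omega
  have hsec : U.relIndex C ≤ 64 ^ (r - 1) := by
    by_cases hCU : C = U
    · rw [hCU, Subgroup.relIndex_self]
      exact Nat.one_le_pow _ _ (by norm_num)
    obtain ⟨N, hN⟩ := exists_sec U hUab hmax ι hιinj hCU
    exact relIndex_centralizer_le_pow U ι hιinj hιv hlin hN hirr.1
  calc C.index * U.index = C.index ^ 2 * U.relIndex C := by
        rw [← Subgroup.relIndex_mul_index hUC]; ring
    _ ≤ 64 ^ (s - 1) * 64 ^ (r - 1) :=
        Nat.mul_le_mul ((Nat.pow_le_pow_left hCs 2).trans (sq_le_pow hs1)) hsec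
    _ ≤ 64 ^ (n - 1) := by
        rw [← pow_add]
        exact Nat.pow_le_pow_right (by norm_num) hsr

theorem bound (n : ℕ) : Bound n := by
  induction n using Nat.strong_induction_on with
  | _ n ih =>
  intro V H K _ _ _ _ _ _ _ _ _ hirr hsol hn
  let φ : H ⧸ ker H V →* AddMonoid.End V :=
    QuotientGroup.lift _ (DistribMulAction.toAddMonoidEnd H V) fun h hh => by
      rw [MonoidHom.mem_ker]
      exact AddMonoidHom.ext fun v => mem_ker.mp hh v
  letI : DistribMulAction (H ⧸ ker H V) V := DistribMulAction.compHom V φ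
  have hsmul : ∀ (h : H) (v : V), (QuotientGroup.mk' (ker H V) h) • v = h • v := fun _ _ => rfl
  haveI : FaithfulSMul (H ⧸ ker H V) V := ⟨fun {a b} hab => by
    obtain ⟨x, rfl⟩ := QuotientGroup.mk'_surjective _ a
    obtain ⟨y, rfl⟩ := QuotientGroup.mk'_surjective _ b
    apply (QuotientGroup.eq (s := ker H V)).mpr
    rw [mem_ker]
    intro v
    have h1 : x • v = y • v := hab v
    rw [mul_smul, ← h1, inv_smul_smul]⟩
  haveI : SMulCommClass (H ⧸ ker H V) K V := ⟨fun x k v => by
    obtain ⟨h, rfl⟩ := QuotientGroup.mk'_surjective _ x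
    rw [hsmul, hsmul, smul_comm]⟩
  have hirr' : Irr (H ⧸ ker H V) V := by
    refine ⟨hirr.1, fun U hU => hirr.2 U fun h v hv => ?_⟩
    rw [← hsmul]
    exact hU _ v hv
  haveI : Group.IsSolvable H := hsol
  obtain ⟨A, M, hAM, hcom, hidx⟩ := idx_irr_faithful ih
    (Group.isSolvable_of_surjective (QuotientGroup.mk'_surjective (ker H V))) hirr' hn
  refine ⟨A.comap (QuotientGroup.mk' _), M.comap (QuotientGroup.mk' _), Subgroup.comap_mono hAM,
    fun a ha m hm v => ?_, ?_⟩
  · rw [← hsmul, map_commutatorElement]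
    exact hcom _ ha _ hm v
  · rwa [Subgroup.index_comap_of_surjective _ (QuotientGroup.mk'_surjective _),
      Subgroup.index_comap_of_surjective _ (QuotientGroup.mk'_surjective _)]

end Cfsg.Agent.BC87.SolvableK
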