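import Mathlib.FieldTheory.Minpoly.Field
import Mathlib.Algebra.Polynomial.Lifts
import Cfsg.Agent.BC87.SolvableK.Index

/-!
# A central element without fixed vectors: decomposition and annihilating polynomial
-/

set_option autoImplicit false

namespace Cfsg.Agent.BC87.SolvableK

open Polynomial Cfsg.Agent.BC85.BaseTwo
open scoped commutatorElement

/-- The operator of a group element. -/
abbrev op (H V : Type) [Group H] [AddCommGroup V] [DistribMulAction H V] : H →* AddMonoid.End V :=
  DistribMulAction.toAddMonoidEnd H V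

theorem aeval_op_comm {C H U V : Type} [Group C] [Group H] [AddCommGroup U] [AddCommGroup V]
    [DistribMulAction C U] [DistribMulAction H V] (f : U →+ V) (z : C) (z' : H)
    (hf : ∀ u, f (z • u) = z' • f u) (P : ℤ[X]) (u : U) :
    f (aeval (op C U z) P u) = aeval (op H V z') P (f u) := by
  induction P using Polynomial.induction_on' with
  | add P Q hP hQ =>
    rw [map_add, map_add]
    show f (aeval (op C U z) P u + aeval (op C U z) Q u) =
      aeval (op H V z') P (f u) + aeval (op H V z') Q (f u)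
    rw [map_add, hP, hQ]
  | monomial n a =>
    have hpow : ∀ n (u : U), f (z ^ n • u) = z' ^ n • f u := by
      intro n
      induction n with
      | zero => intro u; simp
      | succ n ih => intro u; rw [pow_succ', pow_succ', mul_smul, mul_smul, hf, ih]
    rw [aeval_monomial, aeval_monomial, Algebra.algebraMap_eq_smul_one,
      Algebra.algebraMap_eq_smul_one, smul_mul_assoc, one_mul, smul_mul_assoc, one_mul, ← map_pow,
      ← map_pow]
    show f (a • (z ^ n • u)) = a • (z' ^ n • f u)
    rw [map_zsmul, hpow]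

/-- Pairwise commuting operators commuting with an irreducible group generate a field. -/
theorem isField_closure {C V : Type} [Group C] [AddCommGroup V] [Finite V] [DistribMulAction C V]
    (hirr : Irr C V) (S : Set (AddMonoid.End V)) (h1 : ∀ a ∈ S, ∀ b ∈ S, a * b = b * a)
    (h2 : ∀ a ∈ S, ∀ (c : C) (v : V), a (c • v) = c • a v) :
    IsField (Subring.closure S) ∧
      ∀ f ∈ Subring.closure S, ∀ (c : C) (v : V), f (c • v) = c • f v := by
  classical
  set R := Subring.closure S with hR
  haveI : Finite (AddMonoid.End V) := Finite.of_injective _ DFunLike.coe_injective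
  have hcomm : ∀ a ∈ R, ∀ b ∈ R, a * b = b * a := by
    have e1 : R ≤ Subring.centralizer S := by
      rw [hR, Subring.closure_le]
      exact fun a ha => Subring.mem_centralizer_iff.mpr fun b hb => h1 b hb a ha
    have e2 : R ≤ Subring.centralizer (R : Set (AddMonoid.End V)) := by
      conv_lhs => rw [hR]
      rw [Subring.closure_le]
      intro g hg
      exact Subring.mem_centralizer_iff.mpr fun r hr =>
        (Subring.mem_centralizer_iff.mp (e1 hr) g hg).symm
    exact fun a ha b hb => (Subring.mem_centralizer_iff.mp (e2 ha) b hb).symm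
  have hC : ∀ f ∈ R, ∀ (c : C) (v : V), f (c • v) = c • f v := by
    have e : R ≤ Subring.centralizer (Set.range (op C V)) := by
      rw [hR, Subring.closure_le]
      intro a ha
      refine Subring.mem_centralizer_iff.mpr ?_
      rintro _ ⟨c, rfl⟩
      exact AddMonoidHom.ext fun v => (h2 a ha c v).symm
    intro f hf c v
    exact congrArg (fun g : AddMonoid.End V => g v)
      (Subring.mem_centralizer_iff.mp (e hf) _ ⟨c, rfl⟩).symm
  refine ⟨⟨⟨0, 1, fun h => ?_⟩, fun a b => Subtype.ext (hcomm a a.2 b b.2), fun {a} ha => ?_⟩, hC⟩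
  · obtain ⟨v, hv⟩ := hirr.1
    exact hv (congrArg (fun r : R => (r : AddMonoid.End V) v) h).symm
  have hinv : Inv C V (AddMonoidHom.ker (a : AddMonoid.End V)) := by
    intro c v hv
    have hv' : (a : AddMonoid.End V) v = 0 := hv
    show (a : AddMonoid.End V) (c • v) = 0
    rw [hC a a.2 c v, hv', smul_zero]
  rcases hirr.2 _ hinv with hb | ht
  · have hinj : Function.Injective fun g : R => a * g := by
      intro g g' hgg
      apply Subtype.ext
      refine AddMonoidHom.ext fun v => ?_
      exact (AddMonoidHom.ker_eq_bot_iff (a : AddMonoid.End V)).mp hb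
        (congrArg (fun r : R => (r : AddMonoid.End V) v) hgg)
    obtain ⟨g, hg⟩ := Finite.surjective_of_injective hinj 1
    exact ⟨g, hg⟩
  · exact absurd (Subtype.ext (AddMonoidHom.ext fun v =>
      AddMonoidHom.mem_ker.mp (ht ▸ AddSubgroup.mem_top v))) ha

/-- An integral monic polynomial of small degree with a given root in a finite field. -/
theorem exists_monic_int {K : Type} [Field K] [Finite K] (ζ : K) :
    ∃ P : ℤ[X], P.Monic ∧ aeval ζ P = 0 ∧ 2 ^ P.natDegree ≤ Nat.card K := by
  obtain ⟨q, hq⟩ := CharP.exists K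
  haveI := hq
  haveI : Fact q.Prime := ⟨(CharP.char_is_prime_or_zero K q).resolve_right
    (CharP.char_ne_zero_of_finite K q)⟩
  letI : Algebra (ZMod q) K := ZMod.algebra K q
  haveI : IsScalarTower ℤ (ZMod q) K := IsScalarTower.of_algebraMap_eq fun n => by simp
  have hm : (minpoly (ZMod q) ζ).Monic := minpoly.monic (IsIntegral.of_finite (ZMod q) ζ)
  obtain ⟨P, hP, hdeg, hPm⟩ := lifts_and_natDegree_eq_and_monic
    (f := algebraMap ℤ (ZMod q))
    (map_surjective _ ZMod.intCast_surjective (minpoly (ZMod q) ζ)) hm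
  refine ⟨P, hPm, ?_, ?_⟩
  · rw [← aeval_map_algebraMap (ZMod q) ζ P, hP, minpoly.aeval]
  · rw [hdeg, Module.natCard_eq_pow_finrank (K := ZMod q) (V := K), Nat.card_zmod]
    exact (Nat.pow_le_pow_left (Fact.out (p := q.Prime)).two_le _).trans
      (Nat.pow_le_pow_right (Fact.out (p := q.Prime)).pos (minpoly.natDegree_le ζ))

/-- The statement to be proved by induction over invariant decompositions. -/
def Dec (n : ℕ) : Prop :=
  ∀ (V C : Type) [AddCommGroup V] [Finite V] [Group C] [Finite C] [DistribMulAction C V]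
    (z : C) (p : ℕ), Nat.card V ≤ n → Group.IsSolvable C → CR C V → z ∈ Subgroup.center C →
    z ^ p = 1 → p.Prime → 64 < p → (∀ v : V, z • v = v → v = 0) →
    ∃ (A M : Subgroup C) (P : ℤ[X]), (∀ a ∈ A, ∀ m ∈ M, Triv V ⁅a, m⁆) ∧ P.Monic ∧
      aeval (op C V z) P = 0 ∧ M.index * A.index * 2 ^ P.natDegree ≤ Nat.card V

theorem dec_all (n : ℕ) : Dec n := by
  induction n with
  | zero => intro V C _ _ _ _ _ _ _ hn; exact absurd hn (Nat.not_le.mpr Nat.card_pos)
  | succ n ih =>
  intro V C _ _ _ _ _ z p hn hsol hcr hz hzp hp hp64 hfix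
  by_cases hV : ∃ v : V, v ≠ 0
  swap
  · push Not at hV
    refine ⟨⊤, ⊤, 1, fun a _ m _ v => by rw [hV v, smul_zero], monic_one,
      AddMonoidHom.ext fun v => hV _, ?_⟩
    simp only [Subgroup.index_top, natDegree_one, pow_zero, mul_one]
    exact Nat.card_pos
  by_cases hi : Irr C V
  · have hzc : ∀ a ∈ ({op C V z} : Set (AddMonoid.End V)), ∀ (c : C) (v : V),
        a (c • v) = c • a v := by
      rintro _ rfl c v
      show z • c • v = c • z • v
      rw [← mul_smul, ← mul_smul, Subgroup.mem_center_iff.mp hz c]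
    obtain ⟨hf, hcomm⟩ := isField_closure hi {op C V z} (by rintro _ rfl _ rfl; rfl) hzc
    set R := Subring.closure ({op C V z} : Set (AddMonoid.End V)) with hR
    haveI : Finite (AddMonoid.End V) := Finite.of_injective _ DFunLike.coe_injective
    letI : Field R := hf.toField
    haveI : SMulCommClass C R V := ⟨fun c r v => (hcomm r r.2 c v).symm⟩
    let ζ : R := ⟨op C V z, Subring.subset_closure rfl⟩
    obtain ⟨P, hPm, hPr, hPd⟩ := exists_monic_int ζ
    have hPz : aeval (op C V z) P = 0 := by
      have h := aeval_algHom_apply R.subtype.toIntAlgHom ζ P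
      rw [hPr, map_zero] at h
      exact h
    have hR64 : 64 ≤ Nat.card R := by
      have hζ1 : ζ ≠ 1 := by
        intro h
        obtain ⟨v, hv⟩ := hV
        exact hv (hfix v (congrArg (fun r : R => (r : AddMonoid.End V) v) h))
      have hζp : ζ ^ p = 1 := Subtype.ext (by
        rw [SubmonoidClass.coe_pow]
        show op C V z ^ p = 1
        rw [← map_pow, hzp, map_one])
      haveI := Fact.mk hp
      have h := orderOf_eq_prime hζp hζ1
      have h2 : orderOf ζ ≤ Nat.card R := orderOf_le_card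
      omega
    haveI : Module.Finite R V := Module.Finite.of_finite
    obtain ⟨A, M, -, hcom, hidx⟩ := bound _ V C R hi hsol rfl
    refine ⟨A, M, P, hcom, hPm, hPz, ?_⟩
    obtain ⟨r, hr⟩ : ∃ r, Module.finrank R V = r + 1 := by
      obtain ⟨v, hv⟩ := hV
      have : 0 < Module.finrank R V := Module.finrank_pos_iff_exists_ne_zero.mpr ⟨v, hv⟩
      exact ⟨_, (Nat.sub_add_cancel this).symm⟩
    rw [hr, Nat.add_sub_cancel] at hidx
    rw [Module.natCard_eq_pow_finrank (K := R) (V := V), hr, pow_succ]
    exact Nat.mul_le_mul (hidx.trans (Nat.pow_le_pow_left hR64 r)) hPd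
  obtain ⟨U, hU, hU0, hU1⟩ : ∃ U, Inv C V U ∧ U ≠ ⊥ ∧ U ≠ ⊤ := by
    by_contra hno
    refine hi ⟨hV, fun U hU => ?_⟩
    by_contra hne
    exact hno ⟨U, hU, fun e => hne (Or.inl e), fun e => hne (Or.inr e)⟩
  obtain ⟨W, hW, hinf, hsup⟩ := hcr U hU
  have hW1 : W ≠ ⊤ := by
    rintro rfl
    exact hU0 (by rw [← hinf, inf_top_eq])
  letI iU := restrict U hU
  letI iW := restrict W hW
  obtain ⟨A, M, P, hc1, hPm, hP0, hi1⟩ := ih U C z p (by have := card_lt_of_ne_top hU1; omega)
    hsol (cr_restrict hcr U hU) hz hzp hp hp64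
    fun v hv => Subtype.ext (hfix v (congrArg Subtype.val hv))
  obtain ⟨A', M', Q, hc2, hQm, hQ0, hi2⟩ := ih W C z p (by have := card_lt_of_ne_top hW1; omega)
    hsol (cr_restrict hcr W hW) hz hzp hp hp64
    fun v hv => Subtype.ext (hfix v (congrArg Subtype.val hv))
  refine ⟨A ⊓ A', M ⊓ M', P * Q, fun a ha m hm v => ?_, hPm.mul hQm, ?_, ?_⟩
  · obtain ⟨u, hu, w, hw, rfl⟩ :=
      AddSubgroup.mem_sup.mp (hsup ▸ AddSubgroup.mem_top v : v ∈ U ⊔ W)
    have e1 : ⁅a, m⁆ • u = u := congrArg Subtype.val (hc1 a ha.1 m hm.1 ⟨u, hu⟩)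
    have e2 : ⁅a, m⁆ • w = w := congrArg Subtype.val (hc2 a ha.2 m hm.2 ⟨w, hw⟩)
    rw [smul_add, e1, e2]
  · refine AddMonoidHom.ext fun v => ?_
    obtain ⟨u, hu, w, hw, rfl⟩ :=
      AddSubgroup.mem_sup.mp (hsup ▸ AddSubgroup.mem_top v : v ∈ U ⊔ W)
    have e1 : aeval (op C V z) P u = 0 := by
      refine (aeval_op_comm (C := C) (H := C) U.subtype z z (fun _ => rfl) P ⟨u, hu⟩).symm.trans ?_
      rw [hP0]
      exact map_zero U.subtype
    have e2 : aeval (op C V z) Q w = 0 := by
      refine (aeval_op_comm (C := C) (H := C) W.subtype z z (fun _ => rfl) Q ⟨w, hw⟩).symm.trans ?_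
      rw [hQ0]
      exact map_zero W.subtype
    refine (map_add (aeval (op C V z) (P * Q) : V →+ V) u w).trans ?_
    show aeval (op C V z) (P * Q) u + aeval (op C V z) (P * Q) w = 0
    conv_lhs => arg 1; rw [mul_comm, map_mul]
    rw [map_mul]
    show aeval (op C V z) Q (aeval (op C V z) P u) + aeval (op C V z) P (aeval (op C V z) Q w) = 0
    rw [e1, e2, map_zero, map_zero, add_zero]
  · rw [hPm.natDegree_mul hQm, pow_add]
    have hprod : Nat.card U * Nat.card W ≤ Nat.card V := by
      rw [← Nat.card_prod]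
      refine Nat.card_le_card_of_injective (fun x : U × W => (x.1 : V) + x.2) ?_
      rintro ⟨u, w⟩ ⟨u', w'⟩ he
      have hd : (u - u' : U).1 = (w' - w : W).1 := by
        show (u : V) - u' = (w' : V) - w
        rw [sub_eq_sub_iff_add_eq_add, add_comm (w' : V) u']
        exact he
      have hmem : (u - u' : U).1 ∈ U ⊓ W := ⟨SetLike.coe_mem _, hd ▸ SetLike.coe_mem _⟩
      rw [hinf, AddSubgroup.mem_bot] at hmem
      exact Prod.ext (sub_eq_zero.mp (Subtype.ext hmem))
        (sub_eq_zero.mp (Subtype.ext (hd.symm.trans hmem))).symm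
    calc (M ⊓ M').index * (A ⊓ A').index * (2 ^ P.natDegree * 2 ^ Q.natDegree)
        ≤ (M.index * M'.index) * (A.index * A'.index) * (2 ^ P.natDegree * 2 ^ Q.natDegree) := by
          gcongr <;> exact Subgroup.index_inf_le
      _ = (M.index * A.index * 2 ^ P.natDegree) * (M'.index * A'.index * 2 ^ Q.natDegree) := by ring
      _ ≤ Nat.card U * Nat.card W := Nat.mul_le_mul hi1 hi2
      _ ≤ Nat.card V := hprod

end Cfsg.Agent.BC87.SolvableK
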