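import Cfsg.Agent.Lib.Solvable.Basic
import Cfsg.Agent.Lib.Fitting
import Cfsg.Agent.BC87.SolvableK.Arith
import Cfsg.Agent.BC87.SolvableK.Classes
import Cfsg.Agent.BC87.SolvableK.Clifford
import Cfsg.Agent.BC87.SolvableK.Conj

/-!
# Classes of a solvable group and primes dividing the index of the Fitting subgroup
-/

set_option autoImplicit false

namespace Cfsg.Agent.BC87.SolvableK

open Cfsg.Agent.BC85.BaseTwo
open scoped commutatorElement IsMulCommutative

attribute [local instance] conjAct

section

variable {G : Type} [Group G] [Finite G] (p : ℕ) [hp : Fact p.Prime]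

/-- A normal `p`-subgroup when `p` divides the order but not the index of the Fitting subgroup. -/
theorem exists_normal_pgroup (h1 : p ∣ Nat.card G) (h2 : ¬ p ∣ (Cfsg.fittingSubgroup G).index) :
    ∃ N : Subgroup G, N.Normal ∧ N ≠ ⊥ ∧ IsPGroup p N := by
  set F := Cfsg.fittingSubgroup G with hF
  haveI : F.Normal := Cfsg.Agent.Fitting.fitting_normal
  haveI : Group.IsNilpotent F := Cfsg.Agent.Fitting.fitting_isNilpotent
  have hpF : p ∣ Nat.card F := by
    rw [← F.card_mul_index] at h1
    exact (hp.out.dvd_mul.mp h1).resolve_right h2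
  obtain ⟨Q⟩ : Nonempty (Sylow p F) := inferInstance
  have hQ : (Q : Subgroup F).Normal := inferInstance
  haveI := Sylow.characteristic_of_normal Q hQ
  refine ⟨(Q : Subgroup F).map F.subtype, inferInstance, fun h => ?_, Q.isPGroup'.map _⟩
  rw [Subgroup.map_eq_bot_iff_of_injective _ F.subtype_injective] at h
  have h3 := Q.dvd_card_of_dvd_card hpF
  rw [h, Subgroup.card_bot] at h3
  exact hp.out.not_dvd_one h3

variable [hsol : Group.IsSolvable G]

/-- The bound when a minimal normal subgroup has a faithful quotient of the wanted kind. -/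
theorem good_of_minimal (V : Subgroup G) [V.Normal] [IsMulCommutative V] (hV : V ≠ ⊥)
    (hmin : ∀ K : Subgroup G, K.Normal → K ≤ V → K = ⊥ ∨ K = V)
    (hdvd : p ∣ Nat.card (G ⧸ Subgroup.centralizer (V : Set G)))
    (hF : ¬ p ∣ (Cfsg.fittingSubgroup (G ⧸ Subgroup.centralizer (V : Set G))).index) :
    Good p (Nat.card (ConjClasses G)) := by
  have hp2 : 2 ≤ p := hp.out.two_le
  set C0 := Subgroup.centralizer (V : Set G) with hC0
  have hVC : V ≤ C0 := Subgroup.le_centralizer V
  have hcen0 : ∀ v ∈ V, ∀ c ∈ C0, c * v = v * c := fun v hv c hc =>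
    (Subgroup.mem_centralizer_iff.mp hc v hv).symm
  obtain ⟨N, hNn, hN1, hNp⟩ := exists_normal_pgroup p hdvd hF
  obtain ⟨Z, hZn, hZ1, hZN, hZmin⟩ := Cfsg.Agent.Solvable.exists_minimal_normal_le N hN1
  obtain ⟨q, hq, -, hZab, hZexp, a, ha, hZcard⟩ :=
    Cfsg.Agent.Solvable.exists_prime_of_minimal_normal Z hZ1 hZmin
  have hqp : q = p := by
    obtain ⟨j, hj⟩ := IsPGroup.iff_card.mp (hNp.to_le hZN)
    rw [hZcard] at hj
    exact (Nat.prime_dvd_prime_iff_eq hq hp.out).mp
      (hq.dvd_of_dvd_pow (hj ▸ dvd_pow_self q ha.ne'))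
  subst hqp
  have hk := classesIn_add_le V C0 hVC
  have hi := two_le_classesIn hV
  set k := Nat.card (ConjClasses G)
  set C := Subgroup.centralizer (Z : Set (G ⧸ C0)) with hC
  have hZC : Z ≤ C := Subgroup.le_centralizer Z
  have hcen : ∀ v ∈ Z, ∀ c ∈ C, c * v = v * c := fun v hv c hc =>
    (Subgroup.mem_centralizer_iff.mp hc v hv).symm
  by_cases hCtop : C = ⊤
  · have h := card_le_classes_mul_index Z C hcen
    rw [hCtop, Subgroup.index_top, mul_one, hZcard] at h
    have := Nat.le_self_pow ha.ne' q
    exact good_of_le hp2 (by omega)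
  have hk4 : 4 ≤ k := by
    have h := classesIn_add_le Z C hZC
    have h' := two_le_classesIn hZ1
    haveI : Nontrivial ((G ⧸ C0) ⧸ C) := Finite.one_lt_card_iff_nontrivial.mp (by
      rw [← Subgroup.index_eq_card]
      exact Subgroup.one_lt_index_of_ne_top hCtop)
    have h'' := two_le_classes (G := (G ⧸ C0) ⧸ C)
    omega
  rcases le_or_gt q 64 with h64 | h64
  · exact good_small hp2 h64 hk4
  rcases Nat.lt_or_ge a 2 with ha1 | ha2
  · have ha' : a = 1 := by omega
    rw [ha', pow_one] at hZcard
    haveI := conjAct_faithful V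
    obtain ⟨A, M, hcom, hAM⟩ := exists_pair (W := Additive V) inferInstance (conjAct_irr V hV hmin)
      Z hq hZcard h64
    have h1 := four_mul_card_le V C0 hVC hcen0 A M hcom
    have h2 := card_le_classes_mul_index Z C hcen
    rw [hZcard] at h2
    have hVcard : Nat.card (Additive V) = Nat.card V := Nat.card_congr Additive.toMul
    rw [hVcard] at hAM
    refine good_line h64 (by omega) (h2.trans (Nat.mul_le_mul_right _ (by omega))) ?_
    refine Nat.le_of_mul_le_mul_right ?_ (Nat.card_pos (α := V))
    calc 4 * 2 ^ C.index * Nat.card V = (4 * Nat.card V) * 2 ^ C.index := by ring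
      _ ≤ (k + 1) ^ 2 * (M.index * A.index) * 2 ^ C.index := Nat.mul_le_mul_right _ h1
      _ = (k + 1) ^ 2 * (M.index * A.index * 2 ^ C.index) := by ring
      _ ≤ (k + 1) ^ 2 * (C.index ^ 2 * Nat.card V) := Nat.mul_le_mul_left _ hAM
      _ = _ := by ring
  · have hexp : ∀ x : Additive Z, q • x = 0 := fun x => by
      apply Additive.toMul.injective
      apply Subtype.ext
      rw [toMul_nsmul, Subgroup.coe_pow]
      exact hZexp _ (Additive.toMul x).2
    letI : Module (ZMod q) (Additive Z) := AddCommGroup.zmodModule hexp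
    haveI : SMulCommClass ((G ⧸ C0) ⧸ C) (ZMod q) (Additive Z) :=
      ⟨fun g c x => ZMod.map_smul (DistribMulAction.toAddMonoidHom (Additive Z) g) c x⟩
    haveI := conjAct_faithful Z
    have hfr : Module.finrank (ZMod q) (Additive Z) = a := by
      have h : Nat.card (Additive Z) = Nat.card (ZMod q) ^ Module.finrank (ZMod q) (Additive Z) :=
        @Module.natCard_eq_pow_finrank (ZMod q) (Additive Z) _ _ _ Module.Finite.of_finite
      rw [Nat.card_zmod, show Nat.card (Additive Z) = q ^ a from
        (Nat.card_congr Additive.toMul).trans hZcard] at h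
      exact (Nat.pow_right_injective hp2 h).symm
    obtain ⟨A, M, -, hcom, hAM⟩ :=
      bound a (Additive Z) ((G ⧸ C0) ⧸ C) (ZMod q) (conjAct_irr Z hZ1 hZmin) inferInstance hfr
    have h1 := four_mul_card_le Z C hZC hcen A M fun x hx y hy => by
      refine (commutatorElement_eq_one_iff_mul_comm.mp
        (eq_of_smul_eq_smul (α := Additive Z) fun v => ?_)).symm
      rw [one_smul]
      exact hcom x hx y hy v
    rw [hZcard] at h1
    exact good_high h64 ha2 (h1.trans (Nat.mul_le_mul (Nat.pow_le_pow_left (by omega) 2) hAM))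

end

theorem good_all (p : ℕ) [hp : Fact p.Prime] : ∀ (n : ℕ) (G : Type) [Group G] [Finite G],
    Nat.card G ≤ n → Group.IsSolvable G → p ∣ (Cfsg.fittingSubgroup G).index →
      Good p (Nat.card (ConjClasses G)) := by
  intro n
  induction n with
  | zero => intro G _ _ hn; exact absurd hn (Nat.not_le.mpr Nat.card_pos)
  | succ n ih =>
  intro G _ _ hn hsol hdvd
  haveI := hsol
  have hp2 : 2 ≤ p := hp.out.two_le
  haveI : Nontrivial G := Finite.one_lt_card_iff_nontrivial.mp (lt_of_lt_of_le hp.out.one_lt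
    (Nat.le_of_dvd Nat.card_pos (hdvd.trans (Subgroup.index_dvd_card _))))
  obtain ⟨V, r, hVn, hV, hVmin, -, -, hVab, -⟩ :=
    Cfsg.Agent.Solvable.exists_minimal_normal_elementary G
  haveI := hVn
  haveI := hVab
  have hlt : ∀ N : Subgroup G, V ≤ N → N.index ≤ n := by
    intro N hN
    have h1 := Subgroup.card_le_of_le hN
    have h2 : 2 ≤ Nat.card V := Subgroup.one_lt_card_iff_ne_bot V |>.mpr hV
    have h3 := N.card_mul_index
    nlinarith
  by_cases hQ : p ∣ (Cfsg.fittingSubgroup (G ⧸ V)).index
  · exact good_mono hp2 (card_conjClasses_quotient_le V) (ih (G ⧸ V)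
      (by rw [← Subgroup.index_eq_card]; exact hlt V le_rfl) inferInstance hQ)
  set C0 := Subgroup.centralizer (V : Set G) with hC0
  have hVC : V ≤ C0 := Subgroup.le_centralizer V
  by_cases hH : p ∣ (Cfsg.fittingSubgroup (G ⧸ C0)).index
  · exact good_mono hp2 (card_conjClasses_quotient_le C0) (ih (G ⧸ C0)
      (by rw [← Subgroup.index_eq_card]; exact hlt C0 hVC) inferInstance hH)
  refine good_of_minimal p V hV hVmin ?_ hH
  -- the centralizer of `V` meets the preimage of the Fitting subgroup in a nilpotent subgroup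
  set F := Cfsg.fittingSubgroup (G ⧸ V) with hF
  haveI : F.Normal := Cfsg.Agent.Fitting.fitting_normal
  set K := F.comap (QuotientGroup.mk' V) with hK
  have hKp : ¬ p ∣ K.index := by
    rwa [hK, Subgroup.index_comap_of_surjective _ (QuotientGroup.mk'_surjective V)]
  haveI : K.Normal := inferInstance
  let X : Subgroup G := C0 ⊓ K
  have hXnil : Group.IsNilpotent X := by
    haveI : Group.IsNilpotent F := Cfsg.Agent.Fitting.fitting_isNilpotent
    refine Subgroup.isNilpotent_of_ker_le_center
      (((QuotientGroup.mk' V).comp X.subtype).codRestrict F fun x => x.2.2) ?_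
    intro x hx
    have hxV : (x : G) ∈ V := by
      rw [← QuotientGroup.eq_one_iff]
      exact congrArg Subtype.val (MonoidHom.mem_ker.mp hx)
    exact Subgroup.mem_center_iff.mpr fun y => Subtype.ext
      (Subgroup.mem_centralizer_iff.mp y.2.1 x hxV).symm
  have hXF : X ≤ Cfsg.fittingSubgroup G := Cfsg.Agent.Fitting.le_fitting inferInstance hXnil
  have h1 : p ∣ X.index := hdvd.trans (Subgroup.index_dvd_of_le hXF)
  rw [← Subgroup.relIndex_mul_index (show X ≤ K from inf_le_right)] at h1
  have h2 : p ∣ X.relIndex K := (hp.out.dvd_mul.mp h1).resolve_right hKp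
  rw [show X.relIndex K = C0.relIndex K from Subgroup.inf_relIndex_right C0 K] at h2
  rw [← Subgroup.index_eq_card]
  exact h2.trans (Subgroup.relIndex_dvd_index_of_normal C0 K)

end Cfsg.Agent.BC87.SolvableK
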